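import Cfsg.Agent.SB.SporD.Fi.Defs
import Cfsg.Agent.SB.Spor.Dens
import Cfsg.Agent.H838.ThreeTr
import Cfsg.Agent.H837.Base23
import Cfsg.Agent.H816.Conc
import Cfsg.Agent.H830.Con23

/-!
# S5765 : the transpositions of `Fi23` (helper46)

**`boxD23`**.
-/

set_option autoImplicit false
set_option maxRecDepth 100000

namespace Cfsg.Agent.SB.SporD.Fi

namespace D23

open Cfsg Subgroup Equiv Cfsg.Agent.LThreeFi23 Cfsg.Agent.H838.Three Cfsg.Agent.Lib.PermNet Cfsg.Agent.H837.Base23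
  Cfsg.Agent.Fischer.Fi23Hom Cfsg.Agent.KFacts.FiTTh Cfsg.Agent.KFacts.FiTTh.BasDef Cfsg.Agent.KFacts.FiTTh.BasFi
  Cfsg.Agent.H831.Short
open Cfsg.Agent.KFacts.FiTTh.BasInv (base)
open Cfsg.Agent.KFacts.FiTTh.BasTau (tau_mem_M24 tau_none)
open Cfsg.Agent.R08.FiTwentyThree (D isThreeTranspositionClass)
open Cfsg.Spor (Fi23)

theorem tt : IsThreeTranspositionSet D := isThreeTranspositionClass.1

theorem uq {l l' : List Fi23} (h : H816.Prods.Good D l) (h' : H816.Prods.Good D l') (h3 : l.length ≤ 3)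
    (h3' : l'.length ≤ 3) (e : l.prod = l'.prod) : ∀ x, x ∈ l ↔ x ∈ l' :=
  unique tt (m := 3) (noRel_seven tt H830.Con23.isT7) le_rfl l l' h.nodup h'.nodup h3 h3' h.mem h'.mem h.comm h'.comm e

theorem good2 {a b : Fi23} (ha : a ∈ D) (hb : b ∈ D) (h : a ≠ b) (hc : Commute a b) : H816.Prods.Good D [a, b] :=
  ⟨by simpa using h, (H816.Conc.list_two ha hb hc).1, (H816.Conc.list_two ha hb hc).2⟩

theorem solv_conj {G : Type*} [Group G] {K : Subgroup G} (hK : Group.IsSolvable K) (g : G) :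
    Group.IsSolvable (K.comap (MulAut.conj g⁻¹).toMonoidHom) :=
  Group.isSolvable_of_isSolvable_injective (f := (MulAut.conj g⁻¹).toMonoidHom.subgroupComap K)
    fun _ _ h => Subtype.ext ((MulAut.conj g⁻¹).injective (congrArg Subtype.val h))

/-! ### factorisations -/

theorem invol (r : Fi23) (h2 : r * r = 1) (h1 : r ≠ 1) (hD : r ∉ D) : ∃ H : Finset Fi23, (∀ h ∈ H, h ∈ D) ∧
    (∀ h ∈ H, ∀ k ∈ H, Commute h k) ∧ ¬ 4 ∣ H.card ∧ (∀ g : Fi23, Commute g r → ∀ h ∈ H, g * h * g⁻¹ ∈ H) ∧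
      ∀ h ∈ H, ∀ k ∈ H, h ≠ k → ∀ x ∈ D, ∀ y ∈ D, x ≠ y → Commute x y → r * h * k ≠ x * y := by
  classical
  obtain ⟨l, hl, h3, rfl⟩ := H816.Conc.cover_fi23 r h2 h1
  refine ⟨l.toFinset, fun h hh => hl.mem h (List.mem_toFinset.1 hh), fun h hh k hk =>
    hl.comm h (List.mem_toFinset.1 hh) k (List.mem_toFinset.1 hk), fun h4 => ?_, fun g hg h hh => ?_,
    fun h hh k hk hne x hx y hy hxy hc e => ?_⟩
  · rw [List.toFinset_card_of_nodup hl.nodup] at h4
    rw [List.length_eq_zero_iff.1 (Nat.eq_zero_of_dvd_of_lt h4 (by omega))] at h1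
    exact h1 rfl
  · have h4 := hl.map (MulAut.conj g) (E := D) (Set.ext fun y => ⟨fun ⟨x, hx, e⟩ => e ▸ isConj_conj hx g, fun hy =>
      ⟨g⁻¹ * y * g⁻¹⁻¹, isConj_conj hy _, by simp [mul_assoc]⟩⟩)
    refine List.mem_toFinset.2 ((uq h4 hl (by simpa using h3) h3 ?_ _).1
      (List.mem_map_of_mem (List.mem_toFinset.1 hh)))
    rw [← map_list_prod, MulAut.conj_apply, hg.eq, mul_inv_cancel_right]
  · rw [List.mem_toFinset] at hh hk
    have p1 := List.perm_cons_erase hh
    have hk' : k ∈ l.erase h := (List.mem_erase_of_ne hne.symm).2 hk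
    have p2 := p1.trans ((List.perm_cons_erase hk').cons h)
    set t := (l.erase h).erase k
    have ht : ∀ z ∈ t, z ∈ l := fun z hz => List.mem_of_mem_erase (List.mem_of_mem_erase hz)
    have g1 : H816.Prods.Good D t := ⟨(hl.nodup.erase _).erase _, fun z hz => hl.mem z (ht z hz),
      fun z hz w hw => hl.comm z (ht z hz) w (ht w hw)⟩
    have h5 : t.length ≤ 1 := by
      have := p2.length_eq
      simp only [List.length_cons] at this
      omega
    have c1 : ∀ z ∈ l, Commute z t.prod := fun z hz => Commute.list_prod_right _ _ fun w hw => hl.comm z hz w (ht w hw)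
    have h6 : t.prod = [x, y].prod := by
      rw [p2.prod_eq' (List.pairwise_of_forall_mem_list hl.comm), List.prod_cons, List.prod_cons, (c1 k hk).eq,
        ← mul_assoc, (c1 h hh).eq, mul_assoc t.prod, (hl.comm h hh k hk).eq, mul_assoc, mul_assoc, mul_assoc,
        ← mul_assoc h, sq_of (hl.mem h hh), one_mul, sq_of (hl.mem k hk), mul_one] at e
      rw [e, List.prod_cons, List.prod_singleton]
    have h7 := uq g1 (good2 hx hy hxy hc) (by omega) (by simp) h6
    obtain ⟨h8, h9⟩ : x ∈ t ∧ y ∈ t := ⟨(h7 x).2 (by simp), (h7 y).2 (by simp)⟩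
    match t, h5, h8, h9 with
    | [z], _, h8, h9 => exact hxy ((List.mem_singleton.1 h8).trans (List.mem_singleton.1 h9).symm)

/-! ### diagrams of type `A₃` -/

theorem o_tri : orbChk wJ1 8005 12 [(.z, false), (.j, true)] [0] = true := by decide +kernel
theorem f_tri : fixChk [[.a, .b, .c, .d], [.b, .d]] [0, 8006, 8005] = true := by decide +kernel
theorem k5 : checkEq 15 (ntw [.a, .b, .c, .d, .a, .b, .c, .d, .a, .b, .c, .d, .a, .b, .c, .d, .a, .b, .c, .d])
    (ntw []) = true := by decide +kernel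
theorem k2 : checkEq 15 (ntw [.b, .d, .b, .d]) (ntw []) = true := by decide +kernel
theorem k3 : checkEq 15 (ntw [.a, .b, .c, .d, .b, .d, .a, .b, .c, .d, .b, .d, .a, .b, .c, .d, .b, .d])
    (ntw []) = true := by decide +kernel
theorem k1 : Nat.beq (ptw [.a, .b, .c, .d] 8000) 8000 = false := by decide +kernel

theorem tri (a : Fi23) (ha : a ∈ D) (b : Fi23) (hb : b ∈ D) (c : Fi23) (hc : c ∈ D) (hne : a ≠ c) (h1 : Commute a c)
    (h2 : ¬ Commute a b) (h3 : ¬ Commute c b) : ¬ Group.IsSolvable (centralizer ({a, b, c} : Set Fi23)) := by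
  obtain ⟨p, hp, rfl⟩ := exists_T ha
  obtain ⟨q, hq, rfl⟩ := exists_T hb
  obtain ⟨r, hr, rfl⟩ := exists_T hc
  obtain ⟨g, e1, e2⟩ := conjJ0 hp hq fun h => h2 ((com_iff hq).1 h)
  obtain ⟨k, hk, hk'⟩ := step f_J1 o_tri (g := g) hr (by
    intro c hc
    fin_cases hc
    · change ¬ Com 0 _ ↔ _
      rw [com_g hp e1, com_iff hr]
      simp [h1.eq]
    · change ¬ Com 8006 _ ↔ _
      rw [com_g hq e2, com_iff hr]
      exact ⟨fun _ => rfl, fun _ h => h3 (Commute.symm h)⟩) (by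
    rw [List.mem_singleton]
    exact ne_g e1 fun h => hne (h ▸ rfl))
  have hs : ∀ u ∈ [[Lt.a, .b, .c, .d], [.b, .d]], elw u ∈ (centralizer ({T p, T q, T r} : Set Fi23)).comap
      (MulAut.conj k⁻¹).toMonoidHom := fun u hu => by
    have h4 : ∀ s s', s < 31671 → rho k s = s' → s' ∈ [0, 8006, 8005] →
        T s * (k⁻¹ * elw u * k⁻¹⁻¹) = k⁻¹ * elw u * k⁻¹⁻¹ * T s := fun s s' hs h5 h6 => by
      refine ((fix_iff _ hs).1 ?_).symm
      rw [inv_inv, map_mul, map_mul, Perm.mul_apply, Perm.mul_apply, h5, fixChk_spec f_tri u hu _ h6, map_inv,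
        Perm.inv_eq_iff_eq, h5]
    rintro _ (rfl | rfl | rfl)
    exacts [h4 p _ hp (hk' _ _ (by simp) e1) (by simp), h4 q _ hq (hk' _ _ (by simp) e2) (by simp),
      h4 r _ hr hk (by simp)]
  intro hS
  have h5 := Spor.eq_one_of_coprime (solv_conj hS k) (hs [.a, .b, .c, .d] (by simp)) (hs [.b, .d] (by simp))
    (a := 5) (b := 2) (c := 3) (by simp only [pow_succ, pow_zero, one_mul, ← elw_append]; exact elw_eq_of_checkEq k5)
    (by simp only [pow_succ, pow_zero, one_mul, ← elw_append]; exact elw_eq_of_checkEq k2)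
    (by simp only [pow_succ, pow_zero, one_mul, ← elw_append]; exact elw_eq_of_checkEq k3) rfl rfl rfl
  have h6 := k1
  rw [ptw_eq, h5, map_one] at h6
  exact absurd h6 (by decide)

/-! ### cliques -/

/-- words in the generators of `M23` -/
def tw (w : List ℕ) : Perm GolayPt := (w.map BasTau.tau).prod

theorem tw_mem {w : List ℕ} (h : ∀ k ∈ w, k < 7) : tw w ∈ Spor.M23 :=
  list_prod_mem fun x hx => by
    obtain ⟨k, hk, rfl⟩ := List.mem_map.1 hx
    exact mem_M23.2 ⟨tau_mem_M24 k (h k hk), tau_none k (h k hk)⟩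

theorem not_solv {K : Subgroup Fi23} {u v : Perm GolayPt} (hu : u ∈ Spor.M23) (hv : v ∈ Spor.M23) {c : ℕ}
    (h2 : u ^ 2 = 1) (h3 : v ^ 3 = 1) (hc : (u * v) ^ c = 1) (c2 : Nat.gcd 2 c = 1) (c3 : Nat.gcd 3 c = 1) (h1 : u ≠ 1)
    (hK : ∀ n m, m = u ∨ m = v → (∀ p, n * e p * n⁻¹ = e (m p)) → n ∈ K) : ¬ Group.IsSolvable K := fun hS => by
  let f := Spor.M23.subtype.comp base.ind
  let L := K.comap (normalizer (A e : Set Fi23)).subtype
  have h4 : Group.IsSolvable L := Group.isSolvable_of_isSolvable_injective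
    (f := (normalizer (A e : Set Fi23)).subtype.subgroupComap K) fun _ _ h =>
      Subtype.ext (Subtype.ext (congrArg (fun x : K => (x : Fi23)) h))
  have h5 : Group.IsSolvable (L.map f) := Group.isSolvable_of_surjective (f.subgroupMap_surjective L)
  have h6 : ∀ m, m = u ∨ m = v → m ∈ L.map f := fun m hm => by
    obtain ⟨n, hn⟩ := base.full m (by rcases hm with rfl | rfl; exacts [hu, hv])
    exact ⟨⟨n, Base.mem_normalizer_of hn⟩, hK n m hm hn, base.ind_eq hn⟩
  exact h1 (Spor.eq_one_of_coprime h5 (h6 u (.inl rfl)) (h6 v (.inr rfl)) h2 h3 hc rfl c2 c3)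

theorem exists_M23 {S U : Finset GolayPt} (hS : none ∉ S) (hU : none ∉ U) (h4 : S.card ≤ 4) (h : S.card = U.card) :
    ∃ m ∈ Spor.M23, (∀ p ∈ S, m p ∈ U) ∧ ∀ q ∈ U, ∃ p ∈ S, m p = q := by
  let eS : Fin S.card ≃ S := (Finset.equivFin S).symm
  let eU : Fin S.card ≃ U := (Finset.equivFinOfCardEq h.symm).symm
  have hi : ∀ {V : Finset GolayPt} (f : Fin S.card ≃ V), none ∉ V →
      Function.Injective (Fin.cons none (fun i => ((f i : V) : GolayPt)) : Fin (S.card + 1) → GolayPt) :=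
    fun f hf => Fin.cons_injective_iff.2 ⟨fun ⟨i, hi⟩ => hf (hi ▸ (f i).2), fun i j h => f.injective (Subtype.ext h)⟩
  obtain ⟨m, hm⟩ := BasCode.exists_map_emb (n := S.card + 1) (by omega) ⟨_, hi eS hS⟩ ⟨_, hi eU hU⟩
  have h1 : ∀ i, (m : Perm GolayPt) (eS i) = eU i := fun i => hm i.succ
  refine ⟨m, mem_M23.2 ⟨m.2, hm 0⟩, fun p hp => ?_, fun q hq => ⟨eS (eU.symm ⟨q, hq⟩), (eS _).2, ?_⟩⟩
  · have h2 := h1 (eS.symm ⟨p, hp⟩)
    rw [apply_symm_apply] at h2
    exact h2 ▸ (eU _).2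
  · rw [h1, apply_symm_apply]

/-- the standard heptad -/
def H0 : Finset GolayPt := {some 0, some 1, some 2, some 3, some 5, some 17, some 14}

theorem e_mem {p : GolayPt} (hp : p ≠ none) : e p ∈ D := by
  obtain ⟨i, rfl⟩ := Option.ne_none_iff_exists'.1 hp
  exact isConj_e i

theorem com_H0 {d : Fi23} (hd : d ∈ D) (h : ∀ p ∈ ({some 0, some 1, some 2, some 3} : Finset GolayPt), Commute d (e p)) :
    ∀ p ∈ H0, Commute d (e p) := by
  have h1 : [e (some 5), e (some 17), e (some 14)].prod = (e (some 0) * e (some 1) * e (some 2) * e (some 3))⁻¹ :=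
    eq_inv_of_mul_eq_one_right (by
      simpa only [BasChk.oct0, List.map_cons, List.map_nil, List.prod_cons, base.zero, one_mul, mul_assoc] using
        word_WO.symm.trans WO_eq_one)
  have h2 := commute_of_prod tt [e (some 5), e (some 17), e (some 14)]
    ((by decide : ([some 5, some 17, some 14] : List GolayPt).Nodup).map e_inj)
    (by simp only [List.forall_mem_cons]; exact ⟨isConj_e _, isConj_e _, isConj_e _, by simp⟩)
    (by simp only [List.forall_mem_cons, Commute, SemiconjBy, e_comm]; simp) le_rfl hd (h1 ▸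
      ((((h _ (by simp)).mul_right (h _ (by simp))).mul_right (h _ (by simp))).mul_right (h _ (by simp))).inv_right)
  intro p hp
  simp only [H0, Finset.mem_insert, Finset.mem_singleton] at hp
  rcases hp with rfl | rfl | rfl | rfl | rfl | rfl | rfl
  exacts [h _ (by simp), h _ (by simp), h _ (by simp), h _ (by simp), h2 _ (by simp), h2 _ (by simp), h2 _ (by simp)]

theorem com_conj {G : Type*} [Group G] {a b : G} (h : Commute a b) (g : G) : Commute (g * a * g⁻¹) (g * b * g⁻¹) :=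
  h.map (MulAut.conj g)

theorem mem_N {X : Set Fi23} {n : Fi23} (h : ∀ d ∈ X, n * d * n⁻¹ ∈ X) : n ∈ normalizer (closure X : Set Fi23) :=
  mem_normalizer_fintype fun _ hx => (closure_le ((closure X).comap (MulAut.conj n).toMonoidHom)).2
    (fun d hd => subset_closure (h d hd)) hx

/-- cliques in standard position -/
theorem std {S : Finset GolayPt} (h0 : none ∉ S) (hS : S ⊆ {some 0, some 1, some 4} ∨ {some 0, some 1, some 2, some 3} ⊆ S)
    {K : Subgroup Fi23} (hK : ∀ n, (∀ d ∈ CD D (e '' S), n * d * n⁻¹ ∈ CD D (e '' S)) → n ∈ K) :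
    ¬ Group.IsSolvable K := by
  rcases hS with hS | hS
  · refine not_solv (tw_mem (w := [4, 5, 4]) (by decide)) (tw_mem (w := [5, 6]) (by decide)) (c := 5)
      (by decide +kernel) (by decide +kernel) (by decide +kernel) rfl rfl (by decide +kernel)
      fun n m hm hn => hK n fun d hd => ⟨isConj_conj hd.1 n, ?_⟩
    rintro _ ⟨p, hp, rfl⟩
    have h1 : ∀ p ∈ ({some 0, some 1, some 4} : Finset GolayPt), m p = p := by
      rcases hm with rfl | rfl <;> decide +kernel
    rw [← h1 p (hS hp), ← hn]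
    exact com_conj (hd.2 _ ⟨p, hp, rfl⟩) n
  refine not_solv (tw_mem (w := [5]) (by decide)) (tw_mem (w := [1, 4]) (by decide)) (c := 7)
    (by decide +kernel) (by decide +kernel) (by decide +kernel) rfl rfl (by decide +kernel)
    fun n m hm hn => hK n fun d hd => ⟨isConj_conj hd.1 n, ?_⟩
  rintro _ ⟨p, hp, rfl⟩
  have h1 := com_H0 hd.1 fun q hq => hd.2 _ ⟨q, hS hq, rfl⟩
  by_cases h2 : S ⊆ H0
  · obtain ⟨q, hq, rfl⟩ : ∃ q ∈ H0, m q = p := by
      have : ∀ p ∈ H0, ∃ q ∈ H0, m q = p := by rcases hm with rfl | rfl <;> decide +kernel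
      exact this p (h2 hp)
    rw [← hn]
    exact com_conj (h1 q hq) n
  obtain ⟨q, hq, h3⟩ := Finset.not_subset.1 h2
  obtain ⟨i, rfl⟩ := Option.ne_none_iff_exists'.1 fun h : q = none => h0 (h ▸ hq)
  obtain ⟨j, rfl⟩ := mem_base_of_eight hd.1 (S := {i, 0, 1, 2, 3, 5, 17, 14})
    ((by decide +kernel : ∀ i : ZMod 23, some i ∉ H0 → 8 ≤ ({i, 0, 1, 2, 3, 5, 17, 14} : Finset (ZMod 23)).card) i h3)
    fun j hj => by
      rcases Finset.mem_insert.1 hj with rfl | hj
      · exact hd.2 _ ⟨_, hq, rfl⟩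
      · exact h1 _ ((by decide +kernel : ∀ j ∈ ({0, 1, 2, 3, 5, 17, 14} : Finset (ZMod 23)), some j ∈ H0) j hj)
  rw [hn]
  exact e_comm _ _

theorem clique (E : Set Fi23) (hE : E ⊆ D) (hc : ∀ a ∈ E, ∀ b ∈ E, Commute a b) :
    ¬ Group.IsSolvable (normalizer (closure (CD D E) : Set Fi23)) := by
  classical
  obtain ⟨g, hg⟩ := exists_conj_base hE hc
  let S (g : Fi23) : Finset GolayPt := Finset.univ.filter fun p => g⁻¹ * e p * g ∈ E
  have m1 : ∀ g p, p ∈ S g ↔ g⁻¹ * e p * g ∈ E := fun g p => by simp [S]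
  have h0 : ∀ g, none ∉ S g := fun g h => ne_one_of (hE ((m1 g _).1 h)) (by simp [base.zero])
  obtain ⟨m, hm, h1⟩ : ∃ m ∈ Spor.M23, (∀ p ∈ S g, m p ∈ ({some 0, some 1, some 4} : Finset GolayPt)) ∨
      ∀ q ∈ ({some 0, some 1, some 2, some 3} : Finset GolayPt), ∃ p ∈ S g, m p = q := by
    rcases le_or_gt (S g).card 3 with h | h
    · obtain ⟨U, h1, h2⟩ := Finset.exists_subset_card_eq (s := ({some 0, some 1, some 4} : Finset GolayPt)) h
      obtain ⟨m, hm, h3, -⟩ := exists_M23 (h0 g) (fun h => absurd (h1 h) (by decide)) (by omega) h2.symm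
      exact ⟨m, hm, .inl fun p hp => h1 (h3 p hp)⟩
    · obtain ⟨U, h1, h2⟩ := Finset.exists_subset_card_eq (n := 4) h
      obtain ⟨m, hm, -, h3⟩ := exists_M23 (U := {some 0, some 1, some 2, some 3}) (fun h => h0 g (h1 h)) (by decide)
        h2.le h2
      exact ⟨m, hm, .inr fun q hq => (h3 q hq).imp fun p hp => ⟨h1 hp.1, hp.2⟩⟩
  obtain ⟨n, hn⟩ := base.full m hm
  have h2 : ∀ p, m p ∈ S (n * g) ↔ p ∈ S g := fun p => by
    rw [m1, m1, ← hn]
    simp [mul_assoc]
  have h3 : ∀ t ∈ E, n * g * t * (n * g)⁻¹ ∈ e '' S (n * g) := fun t ht => by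
    obtain ⟨i, hi⟩ := hg t ht
    exact ⟨m (some i), (h2 _).2 ((m1 _ _).2 (by simpa [← hi, mul_assoc] using ht)), by simp [← hn, ← hi, mul_assoc]⟩
  refine fun hS => std (h0 (n * g)) (h1.imp (fun h p hp => ?_) fun h q hq => ?_) (fun x hx => mem_N (X := CD D E)
    (n := (n * g)⁻¹ * x * (n * g)⁻¹⁻¹) fun d hd => ⟨isConj_conj hd.1 _, fun t ht => ?_⟩) (solv_conj hS (n * g))
  · obtain ⟨p, rfl⟩ := m.surjective p
    exact h p ((h2 p).1 hp)
  · obtain ⟨p, hp, rfl⟩ := h q hq
    exact (h2 p).2 hp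
  · have h4 := com_conj ((hx (n * g * d * (n * g)⁻¹) ⟨isConj_conj hd.1 _, by
      rintro _ ⟨p, hp, rfl⟩
      simpa [mul_assoc] using com_conj (hd.2 _ ((m1 _ _).1 hp)) (n * g)⟩).2 _ (h3 t ht)) (n * g)⁻¹
    simpa [mul_assoc] using h4

end D23

open D23 Cfsg.Agent.H837.Base23 in
/-- **the transpositions of `Fi23`** -/
theorem boxD23 : BoxD23 :=
  ⟨R08.FiTwentyThree.D,
    { sq := fun _ => sq_of
      ne := fun _ => ne_one_of
      aut := fun σ a ha => by
        obtain ⟨g, rfl⟩ := KFacts.FiTTh.Has.inn σ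
        exact isConj_conj ha g
      three := fun _ ha _ hb => braid_of ha hb
      uniq := fun a ha b hb c hc d hd hne h1 h2 e => by
        have h3 : c ≠ d := by
          rintro rfl
          exact hne ((eq_inv_of_mul_eq_one_left (e.trans (sq_of hc))).trans (inv_of hb))
        simpa using (uq (good2 ha hb hne h1) (good2 hc hd h3 h2) (by simp) (by simp) (by simpa using e) c).2 (by simp)
      invol := invol
      clique := fun E hE _ => clique E hE
      tri := tri }⟩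

end Cfsg.Agent.SB.SporD.Fi
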