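import Cfsg.Agent.SB.SporD.Fi.Defs
import Cfsg.Agent.SB.Spor.Crit
import Cfsg.Agent.SB.SporB.Gen

/-!
# S5765, the rows `Fi22` and `Fi23`: no 2-local subgroup is solvable (helper18)
-/

set_option autoImplicit false
set_option linter.unusedSectionVars false

namespace Cfsg.Agent.SB.SporD.Fi

open Subgroup Cfsg Cfsg.Agent.H786.FC Cfsg.Agent.H251
open Cfsg.Agent.SB.SporB (norm_of conj_of_norm mem_cent norm_cent)

variable {G : Type*} [Group G] [Finite G] {D : Set G}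

namespace Two

variable (T : Two D)
include T

theorem inv {a : G} (ha : a ∈ D) : a⁻¹ = a := inv_eq_of_mul_eq_one_right (T.sq a ha)

theorem conj {a : G} (ha : a ∈ D) (g : G) : g * a * g⁻¹ ∈ D := T.aut (MulAut.conj g) a ha

theorem comm_of {a d : G} (ha : a ∈ D) (hd : d ∈ D) (h : Commute (d * a * d⁻¹) a) : Commute d a := by
  by_contra h1
  rw [T.inv hd, T.three d hd a ha h1] at h
  have h2 := h.eq
  rw [mul_assoc _ a a, T.sq a ha, mul_one, ← mul_assoc, ← mul_assoc, T.sq a ha, one_mul] at h2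
  exact h1 h2.symm

/-- the symmetric group of degree five is not solvable -/
theorem path {H : Subgroup G} (hs : Group.IsSolvable H) {a b c d : G} (ha : a ∈ D) (hb : b ∈ D) (hc : c ∈ D) (hd : d ∈ D)
    (ka : a ∈ H) (kb : b ∈ H) (kc : c ∈ H) (kd : d ∈ H) (ab : ¬ Commute a b) (bc : ¬ Commute b c) (cd : ¬ Commute c d)
    (ac : Commute a c) (ad : Commute a d) (bd : Commute b d) : False := by
  have sq : ∀ {u : G}, u ∈ D → ∀ x, u * (u * x) = x := fun hu x => by rw [← mul_assoc, T.sq _ hu, one_mul]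
  have br : ∀ {u v : G}, u ∈ D → v ∈ D → ¬ Commute u v → ∀ x, v * (u * (v * x)) = u * (v * (u * x)) := fun hu hv h x => by
    rw [← mul_assoc, ← mul_assoc, ← T.three _ hu _ hv h, mul_assoc, mul_assoc]
  have r1 := br ha hb ab
  have r2 := br hb hc bc
  have r3 := br hc hd cd
  have r4 : ∀ x, c * (a * x) = a * (c * x) := fun x => ac.symm.left_comm x
  have r5 : ∀ x, d * (a * x) = a * (d * x) := fun x => ad.symm.left_comm x
  have r6 : ∀ x, d * (b * x) = b * (d * x) := fun x => bd.symm.left_comm x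
  have r7 : ∀ x, c * (b * (a * (c * x))) = b * (c * (b * (a * x))) := fun x => by rw [← r4, r2]
  have r8 : ∀ x, d * (c * (b * (d * x))) = c * (d * (c * (b * x))) := fun x => by rw [← r6, r3]
  have r9 : ∀ x, d * (c * (b * (a * (d * x)))) = c * (d * (c * (b * (a * x)))) := fun x => by rw [← r5, r8]
  have k1 : ∀ x, (a * c) ^ 2 * x = x := fun x => by
    simp only [pow_succ, pow_zero, one_mul, mul_assoc, sq ha, sq hc, r4]
  have k2 : ∀ x, (b * (d * c * d)) ^ 3 * x = x := fun x => by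
    simp only [pow_succ, pow_zero, one_mul, mul_assoc, sq hb, sq hc, sq hd, r2, r6]
  have k3 : ∀ x, (a * c * (b * (d * c * d))) ^ 5 * x = x := fun x => by
    simp only [pow_succ, pow_zero, one_mul, mul_assoc, sq ha, sq hb, sq hc, sq hd, r1, r2, r3, r4, r5, r6, r7, r8, r9]
  have h1 := Spor.eq_one_of_coprime hs (mul_mem ka kc) (mul_mem kb (mul_mem (mul_mem kd kc) kd)) (by simpa using k1 1)
    (by simpa using k2 1) (by simpa using k3 1) (by norm_num) (by norm_num) (by norm_num)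
  rw [← T.inv hc, mul_inv_eq_one] at h1
  exact cd (h1 ▸ ad)

end Two

/-- a product of two commuting members of `D` in `V` -/
structure Pr (D : Set G) (V : Subgroup G) (a b : G) : Prop where
  l : a ∈ D
  r : b ∈ D
  ne : a ≠ b
  comm : Commute a b
  mem : a * b ∈ V

theorem Pr.symm {V : Subgroup G} {a b : G} (h : Pr D V a b) : Pr D V b a := ⟨h.r, h.l, h.ne.symm, h.comm.symm, h.comm.eq ▸ h.mem⟩

theorem Pr.map {V : Subgroup G} {a b : G} (h : Pr D V a b) (T : Two D) {σ : MulAut G} (hσ : ∀ v ∈ V, σ v ∈ V) :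
    Pr D V (σ a) (σ b) :=
  ⟨T.aut σ a h.l, T.aut σ b h.r, σ.injective.ne h.ne, h.comm.map σ, map_mul σ a b ▸ hσ _ h.mem⟩

/-- the context -/
structure Cx (D : Set G) (S : Subgroup (MulAut G)) (Q V : Subgroup G) : Prop where
  T : Two D
  max : ∀ (X : Subgroup G) (e : G), e ∈ X → e ≠ 1 → (∀ x ∈ X, Commute x e) → (∀ σ ∈ S, ∀ x ∈ X, σ x ∈ X) →
    Group.IsSolvable (normalizer (X : Set G))
  ne : ∃ v ∈ V, v ≠ 1
  inv : ∀ σ ∈ S, ∀ v ∈ V, σ v ∈ V
  pg : IsPGroup 2 Q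
  sq : ∀ v ∈ V, v * v = 1
  comm : ∀ v ∈ V, ∀ w ∈ V, Commute v w
  cent : ∀ q ∈ Q, ∀ v ∈ V, Commute q v
  core : ∀ r ∈ V, ∀ B : Subgroup G, IsPGroup 2 B → (∀ g, Commute g r → ∀ s ∈ B, g * s * g⁻¹ ∈ B) →
    ∀ s ∈ B, s * s = 1 → (∀ q ∈ Q, Commute q s) → s ∈ V

theorem solv_le {A B : Subgroup G} (h : A ≤ B) (hB : Group.IsSolvable B) : Group.IsSolvable A :=
  Group.isSolvable_of_isSolvable_injective (f := inclusion h) (inclusion_injective h)

theorem closure_inv {S : Subgroup (MulAut G)} {E : Set G} (h : ∀ σ ∈ S, ∀ x ∈ E, σ x ∈ E) :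
    ∀ σ ∈ S, ∀ x ∈ closure E, σ x ∈ closure E := fun σ hσ =>
  show closure E ≤ (closure E).comap σ.toMonoidHom from (closure_le _).2 fun x hx => subset_closure (h σ hσ x hx)

theorem closure_comm {E : Set G} {e : G} (h : ∀ x ∈ E, Commute x e) : ∀ x ∈ closure E, Commute x e := fun _ hx =>
  mem_centralizer_singleton_iff.1 ((closure_le (centralizer {e})).2 (fun y hy => mem_centralizer_singleton_iff.2 (h y hy)) hx)

/-- a short orbit -/
theorem exists_orbit {Q : Subgroup G} (hQ : IsPGroup 2 Q) {H : Finset G} (h4 : ¬ 4 ∣ H.card)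
    (hn : ∀ q ∈ Q, ∀ h ∈ H, q * h * q⁻¹ ∈ H) :
    ∃ h ∈ H, ∃ k ∈ H, (∃ q ∈ Q, q * h * q⁻¹ = k) ∧ ∀ q ∈ Q, q * h * q⁻¹ = h ∨ q * h * q⁻¹ = k := by
  have _ : Fact (Nat.Prime 2) := ⟨Nat.prime_two⟩
  let act : MulAction Q H :=
    { smul := fun q h => ⟨q * h * (q : G)⁻¹, hn q q.2 h h.2⟩
      one_smul := fun h => Subtype.ext (show (1 : G) * h * (1 : G)⁻¹ = h by group)
      mul_smul := fun p q h => Subtype.ext
        (show (p : G) * q * h * ((p : G) * q)⁻¹ = p * (q * h * (q : G)⁻¹) * (p : G)⁻¹ by group) }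
  have _ := Fintype.ofFinite (MulAction.orbitRel.Quotient Q H)
  obtain ⟨h, hh⟩ : ∃ h : H, ¬ 4 ∣ Nat.card (MulAction.orbit Q h) := by
    by_contra hc
    push Not at hc
    apply h4
    rw [← Fintype.card_coe, ← Nat.card_eq_fintype_card, Nat.card_congr (MulAction.selfEquivSigmaOrbits Q H), Nat.card_sigma]
    exact Finset.dvd_sum fun ω _ => hc _
  obtain ⟨n, h1⟩ := hQ.card_orbit h
  have h2 : (MulAction.orbit Q h).ncard ≤ 2 := by
    rw [← Nat.card_coe_set_eq, h1]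
    rw [h1] at hh
    have h3 : n ≤ 1 := by
      by_contra h3
      exact hh (pow_dvd_pow 2 (show 2 ≤ n by omega))
    interval_cases n <;> norm_num
  by_cases h3 : ∀ q ∈ Q, q * h * q⁻¹ = h
  · exact ⟨h, h.2, h, h.2, ⟨1, one_mem _, by group⟩, fun q hq => Or.inl (h3 q hq)⟩
  push Not at h3
  obtain ⟨q, hq, h3⟩ := h3
  refine ⟨h, h.2, _, hn q hq h h.2, ⟨q, hq, rfl⟩, fun p hp => ?_⟩
  by_contra h5
  push Not at h5
  have h6 : 2 < (MulAction.orbit Q h).ncard := (Set.two_lt_ncard (Set.toFinite _)).2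
    ⟨h, MulAction.mem_orbit_self h, _, MulAction.mem_orbit h (⟨q, hq⟩ : Q), _, MulAction.mem_orbit h (⟨p, hp⟩ : Q),
      fun k => h3 (congrArg Subtype.val k).symm, fun k => h5.1 (congrArg Subtype.val k).symm,
      fun k => h5.2 (congrArg Subtype.val k).symm⟩
  omega

namespace Cx

variable {S : Subgroup (MulAut G)} {Q V : Subgroup G} (C : Cx D S Q V)
include C

/-- no invariant clique -/
theorem no_clique {E : Set G} (h1 : E ⊆ D) (h2 : ∀ a ∈ E, ∀ b ∈ E, Commute a b) (h3 : ∀ σ ∈ S, ∀ a ∈ E, σ a ∈ E) {e : G}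
    (he : e ∈ E) : False := by
  refine C.T.clique E h1 ⟨e, he⟩ h2 (C.max _ e (subset_closure ⟨h1 he, h2 e he⟩) (C.T.ne e (h1 he))
    (closure_comm fun x hx => hx.2 e he) (closure_inv fun σ hσ x hx => ⟨C.T.aut σ x hx.1, fun a ha => ?_⟩))
  have h4 := (hx.2 _ (h3 σ⁻¹ (inv_mem hσ) a ha)).map σ
  rwa [MulAut.apply_inv_self] at h4

theorem not_mem {v : G} (hv : v ∈ V) : v ∉ D := fun h =>
  C.no_clique (E := D ∩ V) Set.inter_subset_left (fun a ha b hb => C.comm a ha.2 b hb.2)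
    (fun σ hσ a ha => ⟨C.T.aut σ a ha.1, C.inv σ hσ a ha.2⟩) ⟨h, hv⟩

theorem exists_nbr {h k : G} (p : Pr D V h k) : ∃ c d, Pr D V c d ∧ ¬ Commute h c := by
  by_contra hc
  push Not at hc
  refine C.no_clique (E := {x | (∃ y, Pr D V x y) ∧ ∀ c d, Pr D V c d → Commute x c}) (fun x ⟨⟨_, q⟩, _⟩ => q.l)
    (fun a ha b ⟨⟨y, q⟩, _⟩ => ha.2 b y q) (fun σ hσ a ⟨⟨y, q⟩, ha⟩ => ⟨⟨_, q.map C.T (C.inv σ hσ)⟩, fun c d q' => ?_⟩)
    (e := h) ⟨⟨k, p⟩, hc⟩
  have h4 := (ha _ _ (q'.map C.T (C.inv _ (inv_mem hσ)))).map σ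
  rwa [MulAut.apply_inv_self] at h4

/-- the factors attached to an element of `V` -/
theorem star {r : G} (hr : r ∈ V) (h1 : r ≠ 1) : ∃ h k, Pr D V h k ∧ (∀ d ∈ D, Commute d r → Commute d h) ∧
    ∀ x y, Pr D V x y → r * (h * k) ≠ x * y := by
  obtain ⟨H, k1, k2, k3, k4, k5⟩ := C.T.invol r (C.sq r hr) h1 (C.not_mem hr)
  have hc : ∀ x ∈ closure (H : Set G), ∀ y ∈ closure (H : Set G), Commute x y := fun x hx y hy =>
    closure_comm (fun z hz => (closure_comm (fun w hw => k2 w hw z hz) y hy).symm) x hx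
  have hs : ∀ x ∈ closure (H : Set G), x * x = 1 := fun x hx => by
    induction hx using closure_induction with
    | mem x hx => exact C.T.sq x (k1 x hx)
    | one => exact mul_one 1
    | mul x y hx hy h2 h3 => rw [(hc y hy x hx).mul_mul_mul_comm, h2, h3, mul_one]
    | inv x hx h2 => rw [← mul_inv_rev, h2, inv_one]
  have key := C.core r hr (closure (H : Set G)) (isPGroup_of_pow_two fun x hx => by rw [pow_two, hs x hx])
    fun g hg => show closure (H : Set G) ≤ (closure (H : Set G)).comap (MulAut.conj g).toMonoidHom from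
      (closure_le _).2 fun x hx => subset_closure (k4 g hg x hx)
  obtain ⟨h, hh, k, hk, ⟨q, hq, l1⟩, l2⟩ := exists_orbit C.pg k3 fun q hq => k4 q (C.cent q hq r hr)
  have hne : h ≠ k := by
    rintro rfl
    exact C.not_mem (key h (subset_closure hh) (C.T.sq h (k1 h hh)) fun p hp =>
      mul_inv_eq_iff_eq_mul.1 ((l2 p hp).elim id id)) (k1 h hh)
  have hm : h * k ∈ closure (H : Set G) := mul_mem (subset_closure hh) (subset_closure hk)
  refine ⟨h, k, ⟨k1 h hh, k1 k hk, hne, k2 h hh k hk, key _ hm (hs _ hm) fun p hp => ?_⟩,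
    fun d hd l => C.T.comm_of (k1 h hh) hd (k2 _ (k4 d l h hh) h hh),
    fun x y p => mul_assoc r h k ▸ k5 h hh k hk hne x p.l y p.r p.ne p.comm⟩
  have l3 := l2 _ (mul_mem hp hq)
  rw [show p * q * h * (p * q)⁻¹ = p * (q * h * q⁻¹) * p⁻¹ by group, l1] at l3
  have l4 : p * h * p⁻¹ ≠ p * k * p⁻¹ := fun e => hne (by simpa using e)
  refine mul_inv_eq_iff_eq_mul.1 ?_
  rw [← conj_mul]
  rcases l2 p hp with e1 | e1 <;> rcases l3 with e2 | e2
  · exact absurd (e1.trans e2.symm) l4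
  · rw [e1, e2]
  · rw [e1, e2, (k2 h hh k hk).eq]
  · exact absurd (e1.trans e2.symm) l4

theorem swap {a b g : G} (p : Pr D V a b) (hg : Commute g (a * b)) : g * a * g⁻¹ = a ∨ g * a * g⁻¹ = b :=
  C.T.uniq a p.l b p.r _ (C.T.conj p.l g) _ (C.T.conj p.r g) p.ne p.comm (p.comm.map (MulAut.conj g))
    (by rw [conj_mul, hg.eq, mul_inv_cancel_right])

theorem act {a b v : G} (p : Pr D V a b) (hv : v ∈ V) (h : ¬ Commute a v) : a * v * a⁻¹ = v * (a * b) := by
  have h1 := (C.swap p (C.comm v hv _ p.mem)).resolve_left fun k => h (mul_inv_eq_iff_eq_mul.1 k).symm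
  have h2 : v⁻¹ = v := inv_eq_of_mul_eq_one_right (C.sq v hv)
  rw [h2] at h1
  rw [C.T.inv p.l, p.comm.eq, ← h1, ← mul_assoc, ← mul_assoc, ← mul_assoc, C.sq v hv, one_mul]

theorem norm {a b : G} (p : Pr D V a b) : ∀ v ∈ V, a * v * a⁻¹ ∈ V := fun v hv => by
  by_cases h : Commute a v
  · rwa [h.eq, mul_inv_cancel_right]
  · rw [C.act p hv h]
    exact mul_mem hv p.mem

theorem both {a b v w : G} (p : Pr D V a b) (hv : v ∈ V) (hw : w ∈ V) (h1 : ¬ Commute a v) (h2 : ¬ Commute a w) :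
    Commute a (v * w) := by
  refine mul_inv_eq_iff_eq_mul.1 ?_
  rw [← conj_mul, C.act p hv h1, C.act p hw h2, (C.comm _ p.mem w hw).mul_mul_mul_comm, C.sq _ p.mem, mul_one]

theorem comm_iff {a b c d : G} (p : Pr D V a b) (q : Pr D V c d) : Commute a (c * d) ↔ Commute a c := by
  refine ⟨fun h => C.T.comm_of q.l p.l ?_, fun h => h.mul_right (C.T.comm_of p.l q.r ?_).symm⟩
  · rcases C.swap q h with k | k
    · rw [k]
    · rw [k]
      exact q.comm.symm
  · have h1 : Commute (c * d * a * (c * d)⁻¹) a := by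
      rcases C.swap p (C.comm _ q.mem _ p.mem) with k | k
      · rw [k]
      · rw [k]
        exact p.comm.symm
    have h2 := h1.map (MulAut.conj c⁻¹)
    rwa [MulAut.conj_apply, MulAut.conj_apply, show c⁻¹ * (c * d * a * (c * d)⁻¹) * c⁻¹⁻¹ = d * a * d⁻¹ by group,
      ← h.inv_right.eq, mul_inv_cancel_right] at h2

theorem solv : Group.IsSolvable (normalizer (V : Set G)) := by
  obtain ⟨v, hv, h1⟩ := C.ne
  exact C.max V v hv h1 (fun x hx => C.comm x hx v hv) C.inv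

theorem mem_norm {a b : G} (p : Pr D V a b) : a ∈ normalizer (V : Set G) := mem_normalizer_fintype (C.norm p)

/-- a neighbour of `h` is a neighbour of one of two factors, and not of the other -/
theorem nbr {a b c d h k : G} (p : Pr D V a b) (q : Pr D V c d) (s : Pr D V h k)
    (hh : ∀ x ∈ D, Commute x (a * b * (c * d)) → Commute x h) :
    ∃ x y, Pr D V x y ∧ ¬ Commute h x ∧ (¬ Commute x a ∧ Commute x c ∨ Commute x a ∧ ¬ Commute x c) := by
  obtain ⟨x, y, u, hx⟩ := C.exists_nbr s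
  have h1 : ¬ Commute x (a * b * (c * d)) := fun h => hx (hh x u.l h).symm
  refine ⟨x, y, u, hx, ?_⟩
  rw [← C.comm_iff u p, ← C.comm_iff u q]
  by_cases k1 : Commute x (a * b) <;> by_cases k2 : Commute x (c * d)
  · exact absurd (k1.mul_right k2) h1
  · exact Or.inr ⟨k1, k2⟩
  · exact Or.inl ⟨k1, k2⟩
  · exact absurd (C.both u p.mem q.mem k1 k2) h1

theorem ne_one {v w : G} (hw : w ∈ V) (h : v ≠ w) : v * w ≠ 1 := fun k =>
  h (mul_right_cancel (k.trans (C.sq w hw).symm))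

/-- paths of length two -/
theorem two {a b c d e f : G} (p : Pr D V a b) (q : Pr D V c d) (s : Pr D V e f) (h1 : ¬ Commute a e) (h2 : ¬ Commute e c)
    (h3 : Commute a c) : a * b = c * d := by
  by_contra hne
  obtain ⟨h, k, u, k1, -⟩ := C.star (mul_mem p.mem q.mem) (C.ne_one q.mem hne)
  have l1 := k1 a p.l (((Commute.refl a).mul_right p.comm).mul_right ((C.comm_iff p q).2 h3))
  have l2 := k1 c q.l (((C.comm_iff q p).2 h3.symm).mul_right ((Commute.refl c).mul_right q.comm))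
  have l3 := k1 e s.l (C.both s p.mem q.mem (fun k => h1 ((C.comm_iff s p).1 k).symm) fun k => h2 ((C.comm_iff s q).1 k))
  have key : ∀ {a b c d x y : G}, Pr D V a b → Pr D V c d → Pr D V x y → ¬ Commute a e → ¬ Commute e c → Commute a h →
      Commute c h → ¬ Commute h x → ¬ Commute x c → Commute x a → False := by
    intro a b c d x y p q w h1 h2 l1 l2 m1 m2 m3
    by_cases m4 : Commute x e
    · exact C.T.path C.solv u.l w.l q.l s.l (C.mem_norm u) (C.mem_norm w) (C.mem_norm q) (C.mem_norm s) m1 m2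
        (fun k => h2 k.symm) l2.symm l3.symm m4
    · exact C.T.path C.solv p.l s.l w.l u.l (C.mem_norm p) (C.mem_norm s) (C.mem_norm w) (C.mem_norm u) h1
        (fun k => m4 k.symm) (fun k => m1 k.symm) m3.symm l1 l3
  obtain ⟨x, y, w, m1, ⟨m2, m3⟩ | ⟨m2, m3⟩⟩ := C.nbr p q u k1
  · exact key q p w (fun k => h2 k.symm) (fun k => h1 k.symm) l2 l1 m1 m2 m3
  · exact key p q w h1 h2 l1 l2 m1 m3 m2

/-- commuting factors -/
theorem eq_of_comm {a b c d : G} (p : Pr D V a b) (q : Pr D V c d) (h3 : Commute a c) : a * b = c * d := by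
  by_contra hne
  obtain ⟨h, k, u, k1, k2⟩ := C.star (mul_mem p.mem q.mem) (C.ne_one q.mem hne)
  have l1 := k1 a p.l (((Commute.refl a).mul_right p.comm).mul_right ((C.comm_iff p q).2 h3))
  have l2 := k1 c q.l (((C.comm_iff q p).2 h3.symm).mul_right ((Commute.refl c).mul_right q.comm))
  obtain ⟨x, y, w, m1, ⟨m2, -⟩ | ⟨-, m3⟩⟩ := C.nbr p q u k1
  · refine k2 c d q ?_
    rw [← C.two p u w (fun k => m2 k.symm) (fun k => m1 k.symm) l1, (C.comm _ p.mem _ q.mem).eq, mul_assoc (c * d),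
      C.sq _ p.mem, mul_one]
  · refine k2 a b p ?_
    rw [← C.two q u w (fun k => m3 k.symm) (fun k => m1 k.symm) l2, mul_assoc (a * b), C.sq _ q.mem, mul_one]

theorem no : False := by
  obtain ⟨v, hv, h1⟩ := C.ne
  obtain ⟨a, b, p, -⟩ := C.star hv h1
  obtain ⟨c, d, q, hac⟩ := C.exists_nbr p
  have h2 : ¬ Commute c (a * b) := fun k => hac ((C.comm_iff q p).1 k).symm
  have s : Pr D V (c * a * c⁻¹) (c * b * c⁻¹) := p.map C.T (σ := MulAut.conj c) (C.norm q)
  have hs : c * a * c⁻¹ * (c * b * c⁻¹) = a * b * (c * d) := by rw [conj_mul, C.act q p.mem h2]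
  have h3 : ∀ x y, Pr D V x y → x * y = a * b ∨ x * y = c * d ∨ x * y = a * b * (c * d) := fun x y w => by
    by_cases k1 : Commute x (a * b)
    · exact Or.inl (C.eq_of_comm w p ((C.comm_iff w p).1 k1))
    by_cases k2 : Commute x (c * d)
    · exact Or.inr (Or.inl (C.eq_of_comm w q ((C.comm_iff w q).1 k2)))
    · exact Or.inr (Or.inr (hs ▸ C.eq_of_comm w s ((C.comm_iff w s).1 (hs ▸ C.both w p.mem q.mem k1 k2))))
  have h4 := C.max (closure {t | ∃ x y, Pr D V x y ∧ t = x * y}) (a * b) (subset_closure ⟨a, b, p, rfl⟩)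
    (fun k => p.ne (by rw [← C.T.inv p.r, ← mul_eq_one_iff_eq_inv, k]))
    (closure_comm fun t ⟨x, y, w, e⟩ => e ▸ C.comm _ w.mem _ p.mem)
    (closure_inv fun σ hσ t ⟨x, y, w, e⟩ => ⟨_, _, w.map C.T (C.inv σ hσ), e ▸ map_mul σ x y⟩)
  refine C.T.tri a p.l c q.l b p.r p.ne p.comm hac
    (fun k => hac ((C.comm_iff p q).1 ?_)) (solv_le (fun g hg => ?_) h4)
  · have k1 := ((C.comm_iff p.symm q).2 k).mul_left (C.comm _ p.symm.mem _ q.mem)
    rwa [← mul_assoc, C.T.sq b p.r, one_mul] at k1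
  · have k1 : Commute a g := mem_centralizer_iff.1 hg a (by simp)
    have k2 : Commute c g := mem_centralizer_iff.1 hg c (by simp)
    have k3 : Commute b g := mem_centralizer_iff.1 hg b (by simp)
    have k4 := k1.mul_left k3
    have k5 : Commute d g := by
      rw [← (C.swap q (C.comm _ p.mem _ q.mem)).resolve_left fun k => h2 (mul_inv_eq_iff_eq_mul.1 k).symm]
      exact (k4.mul_left k2).mul_left k4.inv_left
    refine mem_normalizer_fintype fun t ht => ?_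
    have k6 : Commute t g := closure_comm (E := {t | ∃ x y, Pr D V x y ∧ t = x * y}) (fun t ⟨x, y, w, e⟩ => by
      rcases h3 x y w with l | l | l <;> rw [e, l]
      exacts [k4, k2.mul_left k5, k4.mul_left (k2.mul_left k5)]) t ht
    rwa [← k6.eq, mul_inv_cancel_right]

end Cx

/-- **`O₂(S ⊓ T) = 1`.** -/
theorem boxTwo : BoxTwo := by
  intro G _ _ _ hG D T S hS hm X h1 h2 h3
  by_contra h0
  have hinj := conj_injective hG
  have hc : ∀ (σ : MulAut G) (g : G), σ * MulAut.conj g * σ⁻¹ = MulAut.conj (σ g) := fun σ g => by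
    ext x
    simp
  set R := S.comap (MulAut.conj : G →* MulAut G)
  have hmax : ∀ (X : Subgroup G) (e : G), e ∈ X → e ≠ 1 → (∀ x ∈ X, Commute x e) → (∀ σ ∈ S, ∀ x ∈ X, σ x ∈ X) →
      normalizer (X : Set G) ≤ R := by
    intro X e k1 k2 k3 k4 g hg
    refine hm.mem_of_normalizes (as_inn hG) (X := X.map MulAut.conj)
      (fun k => k2 (hinj ((mem_bot.1 (k ▸ mem_map_of_mem _ k1)).trans (map_one _).symm))) (fun k => k2 (hinj ?_)) ?_
      ⟨g, rfl⟩ ?_
    · rw [map_one]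
      ext x
      obtain ⟨y, hy, e1⟩ := k ⟨x, rfl⟩
      rw [MulAut.conj_apply, ← hinj e1, ← (k3 y hy).eq, mul_inv_cancel_right, MulAut.one_apply]
    · rintro σ hσ _ ⟨x, hx, rfl⟩
      exact ⟨_, k4 σ hσ x hx, (hc σ x).symm⟩
    · rintro _ ⟨x, hx, rfl⟩
      exact ⟨_, conj_of_norm hg hx, (hc (MulAut.conj g) x).symm⟩
  have hR : ∀ σ ∈ S, ∀ g ∈ R, σ g ∈ R := fun σ hσ g hg =>
    mem_comap.2 (hc σ g ▸ mul_mem (mul_mem hσ hg) (inv_mem hσ))
  have hQ : ∀ σ ∈ S, ∀ q ∈ pCoreOf 2 R, σ q ∈ pCoreOf 2 R := fun σ hσ q hq => by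
    refine le_pCoreOf ((pCoreOf_isPGroup R).map σ.toMonoidHom) ?_ (norm_of ?_) (mem_map_of_mem _ hq)
    · rintro _ ⟨x, hx, rfl⟩
      exact hR σ hσ x (pCoreOf_le R hx)
    · rintro g hg _ ⟨x, hx, rfl⟩
      exact ⟨_, conj_of_norm (le_normalizer_pCoreOf R (hR _ (inv_mem hσ) g hg)) hx, by simp⟩
  have hV : ∀ σ ∈ S, ∀ v ∈ omegaCenterOf (pCoreOf 2 R), σ v ∈ omegaCenterOf (pCoreOf 2 R) := fun σ hσ v hv => by
    obtain ⟨k1, k2, k3⟩ := mem_omegaCenterOf.1 hv
    refine mem_omegaCenterOf.2 ⟨hQ σ hσ v k1, mem_cent.2 fun x hx => ?_, by rw [← map_pow, k3, map_one]⟩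
    have k4 := congrArg σ (mem_cent.1 k2 _ (hQ _ (inv_mem hσ) x hx))
    simpa using k4
  have hne : pCoreOf 2 R ≠ ⊥ := fun hb => h0 ((eq_bot_iff_forall _).2 fun x hx => by
    obtain ⟨g, rfl⟩ := (h1 hx).2
    have k : g ∈ pCoreOf 2 R := le_pCoreOf (U := X.comap MulAut.conj) (h2.comap_of_injective _ hinj)
      (fun y hy => (h1 hy).1) (norm_of fun y hy z hz => by
        rw [mem_comap, map_mul, map_mul, map_inv]
        exact h3 _ hy _ hz) hx
    rw [hb, mem_bot] at k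
    rw [k, map_one])
  obtain ⟨⟨v, hv⟩, hv1⟩ := ne_bot_iff_exists_ne_one.1 (omegaCenterOf_ne_bot (pCoreOf_isPGroup R) hne)
  have hv2 : v ≠ 1 := fun k => hv1 (Subtype.ext k)
  have hcent : ∀ q ∈ pCoreOf 2 R, ∀ v ∈ omegaCenterOf (pCoreOf 2 R), Commute q v := fun q hq v hv =>
    (mem_cent.1 (mem_omegaCenterOf.1 hv).2.1 q hq).symm
  have hcomm : ∀ v ∈ omegaCenterOf (pCoreOf 2 R), ∀ w ∈ omegaCenterOf (pCoreOf 2 R), Commute v w := fun v hv =>
    hcent v (mem_omegaCenterOf.1 hv).1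
  have hsol := Spor.comap_solvable hG hS
  refine Cx.no (D := D) (S := S) (Q := pCoreOf 2 R) (V := omegaCenterOf (pCoreOf 2 R)) ⟨T, fun X e k1 k2 k3 k4 =>
    solv_le (hmax X e k1 k2 k3 k4) hsol, ⟨v, hv, hv2⟩, hV,
    pCoreOf_isPGroup R, fun v hv => by rw [← pow_two, (mem_omegaCenterOf.1 hv).2.2], hcomm, hcent,
    fun r hr B k1 k2 s k3 k4 k5 => ?_⟩
  have k6 : s ∈ centralizer (pCoreOf 2 R : Set G) := mem_cent.2 fun q hq => (k5 q hq).symm
  have k7 : centralizer (pCoreOf 2 R : Set G) ≤ R := fun g hg =>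
    hmax _ v hv hv2 (fun x hx => hcomm x hx v hv) hV (mem_normalizer_fintype fun x hx => by
      rwa [mem_cent.1 hg x (mem_omegaCenterOf.1 hx).1, mul_inv_cancel_right])
  refine mem_omegaCenterOf.2 ⟨pCoreOf_mono_of_normal k7 ((le_normalizer_pCoreOf R).trans norm_cent)
    (le_pCoreOf (U := B ⊓ centralizer (pCoreOf 2 R : Set G)) k1.to_inf_left inf_le_right (norm_of fun g hg x hx =>
      ⟨k2 g (mem_cent.1 hg r (mem_omegaCenterOf.1 hr).1) x hx.1, Subgroup.mul_mem _ (Subgroup.mul_mem _ hg hx.2) (Subgroup.inv_mem _ hg)⟩)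
      ⟨k3, k6⟩), k6,
    by rw [pow_two, k4]⟩

end Cfsg.Agent.SB.SporD.Fi
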