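import Cfsg.Agent.SB.SporD.Fi.Defs
import Cfsg.Agent.SB.Mon.Odd
import Cfsg.Agent.SB.R1.Crit
import Cfsg.Agent.SB.SporB.F24Fi
import Cfsg.Agent.H559.FiSpec
import Cfsg.Agent.H759.Ore.Fi22Cent
import Cfsg.Agent.H841.PB.FiTwentyThreeA
import Cfsg.Agent.H702.BR.FiFive
import Cfsg.Agent.H569.PD.Fi23
import Cfsg.Agent.H153.Pw.Fi23Nine
import Cfsg.Agent.S1696
import Cfsg.Agent.S2079

/-!
# S5765, the rows `Fi22` and `Fi23`: outer elements and the primes `p ≥ 5` (helper50)

* `boxOut22`, `boxFive22`, `boxFive23`.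
-/

set_option autoImplicit false

namespace Cfsg.Agent.SB.SporD.Fi

open Subgroup Cfsg Cfsg.Agent.H786.FC Cfsg.Agent.SB.Mon

namespace Fv

/-- the counting argument -/
theorem fitReg_five {A : Type*} [Group A] [Finite A] {T S : Subgroup A} (hT : T.Normal) {c₃ c₅ a b : ℕ}
    (three : ∀ c ∈ T, orderOf c = 3 → Nat.card ↥(T ⊓ centralizer {c}) ≤ c₃)
    (five : ∀ c ∈ T, (orderOf c).Prime → 5 ≤ orderOf c → Nat.card ↥(T ⊓ centralizer {c}) ≤ c₅ ∧
      ∀ j, 3 ^ j ∣ Nat.card ↥(T ⊓ centralizer {c}) → 3 ^ j ≤ a)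
    (pow : ∀ p j : ℕ, p.Prime → 5 ≤ p → p ^ j ∣ Nat.card T → p ^ j ≤ b) (le : c₅ ≤ c₃)
    (num : a * (b * (c₅ * T.index)) * c₃ + c₅ * (b * (c₅ * T.index)) * c₅ < Nat.card T)
    (hS : Group.IsSolvable S) (hn : NPar 2 T S) (hF : fit S ≤ T)
    (h5 : ∃ c ∈ fit S, (orderOf c).Prime ∧ 5 ≤ orderOf c) : FitReg T S := by
  have f2 : Fact (Nat.Prime 2) := ⟨Nat.prime_two⟩
  have f3 : Fact (Nat.Prime 3) := ⟨Nat.prime_three⟩
  have h2 : ∀ c ∈ fit S, orderOf c ≠ 2 := by
    intro c hc ho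
    have h1 := mem_core hc Nat.prime_two ho
    rw [hn (core 2 S) (le_inf (map_subtype_le _) ((core_le_fit 2).trans hF)) (core_pgroup 2) (core_conj 2),
      mem_bot] at h1
    rw [h1, orderOf_one] at ho
    omega
  have hall : ∀ c ∈ fit S, (orderOf c).Prime → Nat.card ↥(T ⊓ centralizer {c}) ≤ c₃ := by
    intro c hc hp
    rcases prime_cases hp with h1 | h1 | h1
    · exact absurd h1 (h2 c hc)
    · exact three c (hF hc) h1
    · exact (five c (hF hc) hp h1).1.trans le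
  obtain ⟨c, hc, hp, h5⟩ := h5
  have fp : Fact (orderOf c).Prime := ⟨hp⟩
  have h0 : core (orderOf c) S ≠ ⊥ := by
    intro hb
    have h1 := mem_core hc hp rfl
    rw [hb, mem_bot] at h1
    rw [h1, orderOf_one] at h5
    omega
  obtain ⟨X, hXY, hX0, hXn, -, -, -, -, hXF⟩ := exists_min hS h0 (map_subtype_le _) (core_conj _)
  have hXT : X ≤ T := hXY.trans ((core_le_fit _).trans hF)
  have hXp : IsPGroup (orderOf c) X := (core_pgroup _).to_le hXY
  obtain ⟨k, hk⟩ := IsPGroup.iff_card.1 hXp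
  have hd : orderOf c ∣ Nat.card X := by
    rw [hk]
    refine dvd_pow_self _ ?_
    rintro rfl
    exact hX0 (eq_bot_of_card_eq X (by rw [hk, pow_zero]))
  obtain ⟨y, hy⟩ := exists_prime_orderOf_dvd_card' _ hd
  have hy' : orderOf (y : A) = orderOf c := by rw [Subgroup.orderOf_coe, hy]
  have hFy : fit S ≤ T ⊓ centralizer {(y : A)} := by
    refine le_inf hF ?_
    rintro _ ⟨v, hv, rfl⟩
    exact mem_centralizer_singleton_iff.2 (hXF v hv y y.2)
  obtain ⟨hCy, hCa⟩ := five y (hXT y.2) (hy' ▸ hp) (hy' ▸ h5)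
  have hXb : Nat.card X ≤ b := hk ▸ pow _ k hp h5 (hk ▸ card_dvd_of_le hXT)
  have hCA : Nat.card ↥(centralizer ({(y : A)} : Set A)) ≤ c₅ * T.index :=
    (R1.card_le_inf_mul_index hT).trans (Nat.mul_le_mul_right _ (by rwa [inf_comm]))
  have hSb : Nat.card S ≤ b * (c₅ * T.index) :=
    (card_le_of_conj (Z := X) (y := (y : A)) fun s hs => hXn s hs _ y.2).trans
      (Nat.mul_le_mul hXb ((card_le_of_le inf_le_right).trans hCA))
  have hY : Nat.card (core 3 S) ≤ a := by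
    obtain ⟨j, hj⟩ := IsPGroup.iff_card.1 (core_pgroup (S := S) 3)
    rw [hj]
    exact hCa j (hj ▸ card_dvd_of_le ((core_le_fit 3).trans hFy))
  refine fitReg_mixed (core 3 S) (m' := c₅) hall (fun v hv hvp hvY => ?_) ?_
  · rcases prime_cases hvp with h1 | h1 | h1
    · exact absurd h1 (h2 v hv)
    · exact absurd (mem_core hv Nat.prime_three h1) hvY
    · exact (five v (hF hv) hvp h1).1
  · refine lt_of_le_of_lt (Nat.add_le_add ?_ ?_) num
    · exact Nat.mul_le_mul_right _ (Nat.mul_le_mul hY hSb)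
    · exact Nat.mul_le_mul_right _ (Nat.mul_le_mul ((card_le_of_le hFy).trans hCy) hSb)

theorem pow_le {p j k n : ℕ} (hp : 0 < p) (h : p ^ j ∣ n) (hk : ¬ p ^ (k + 1) ∣ n) : p ^ j ≤ p ^ k := by
  refine Nat.pow_le_pow_right hp ?_
  by_contra hc
  exact hk ((pow_dvd_pow p (by omega)).trans h)

theorem cases22 {p : ℕ} (hp : p.Prime) (h5 : 5 ≤ p) (h : p ∣ 64561751654400) : p = 5 ∨ p = 7 ∨ p = 11 ∨ p = 13 := by
  have e : 64561751654400 = 2 ^ 17 * 3 ^ 9 * 5 ^ 2 * 7 * 11 * 13 := by norm_num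
  have q : ∀ r : ℕ, r.Prime → p ∣ r → p = r := fun r hr hd => (Nat.prime_dvd_prime_iff_eq hp hr).1 hd
  rw [e] at h
  simp only [hp.dvd_mul] at h
  rcases h with ((((h | h) | h) | h) | h) | h
  · have := q 2 (by norm_num) (hp.dvd_of_dvd_pow h); omega
  · have := q 3 (by norm_num) (hp.dvd_of_dvd_pow h); omega
  · have := q 5 (by norm_num) (hp.dvd_of_dvd_pow h); omega
  · have := q 7 (by norm_num) h; omega
  · have := q 11 (by norm_num) h; omega
  · have := q 13 (by norm_num) h; omega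

theorem cases23 {p : ℕ} (hp : p.Prime) (h5 : 5 ≤ p) (h : p ∣ 4089470473293004800) :
    p = 5 ∨ p = 7 ∨ p = 11 ∨ p = 13 ∨ p = 17 ∨ p = 23 := by
  have e : 4089470473293004800 = 2 ^ 18 * 3 ^ 13 * 5 ^ 2 * 7 * 11 * 13 * 17 * 23 := by norm_num
  have q : ∀ r : ℕ, r.Prime → p ∣ r → p = r := fun r hr hd => (Nat.prime_dvd_prime_iff_eq hp hr).1 hd
  rw [e] at h
  simp only [hp.dvd_mul] at h
  rcases h with ((((((h | h) | h) | h) | h) | h) | h) | h
  · have := q 2 (by norm_num) (hp.dvd_of_dvd_pow h); omega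
  · have := q 3 (by norm_num) (hp.dvd_of_dvd_pow h); omega
  · have := q 5 (by norm_num) (hp.dvd_of_dvd_pow h); omega
  · have := q 7 (by norm_num) h; omega
  · have := q 11 (by norm_num) h; omega
  · have := q 13 (by norm_num) h; omega
  · have := q 17 (by norm_num) h; omega
  · have := q 23 (by norm_num) h; omega

theorem pow25 {n : ℕ} (hc : ∀ p : ℕ, p.Prime → 5 ≤ p → p ∣ n → p ≤ 25 ∧ (p = 5 ∨ ¬ p ^ 2 ∣ n)) (h5 : ¬ 5 ^ 3 ∣ n)
    (p j : ℕ) (hp : p.Prime) (h : 5 ≤ p) (hd : p ^ j ∣ n) : p ^ j ≤ 25 := by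
  rcases Nat.eq_zero_or_pos j with rfl | hj
  · norm_num
  obtain ⟨h1, h2 | h2⟩ := hc p hp h ((dvd_pow_self p hj.ne').trans hd)
  · subst h2
    exact pow_le (k := 2) (by norm_num) hd h5
  · exact (pow_le (k := 1) hp.pos hd h2).trans (by rwa [pow_one])

theorem card22 : Nat.card Spor.Fi22 = 64561751654400 := S1696.result.2

theorem nc22 : ¬ IsMulCommutative Spor.Fi22 := by
  intro h
  have hs : IsSimpleGroup Spor.Fi22 := S1696.result.1
  have _ : Finite Spor.Fi22 := Nat.finite_of_card_ne_zero (by rw [card22]; norm_num)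
  let _ : CommGroup Spor.Fi22 := { (inferInstance : Group _) with mul_comm := h.is_comm.comm }
  have h1 : (Nat.card Spor.Fi22).Prime := IsSimpleGroup.prime_card
  rw [card22] at h1
  norm_num at h1

theorem index22 : (InnG Spor.Fi22).index = 2 := S2079.result

theorem three23 {x : Spor.Fi23} (hx : orderOf x = 3) : Nat.card (centralizer ({x} : Set Spor.Fi23)) ≤ 13756055040 := by
  obtain ⟨k, hk⟩ := H838.Three.classes (x := x) (by rw [← hx]; exact pow_orderOf_eq_one x) (by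
    rintro rfl
    rw [orderOf_one] at hx
    omega)
  rw [H153.Pw.Fi23Nine.card_cent_of_ci hk]
  fin_cases k
  · exact LThreeFi23.card_C.le
  · exact H153.Pw.Fi23Nine.card_rep1.trans (by norm_num)
  · show Nat.card (centralizer ({H838.Three.rep 2} : Set Spor.Fi23)) ≤ _
    rw [← H153.Pw.Fi23Nine.rep2, H153.Pw.Fi23Nine.card_cent_conj]
    exact H153.Pw.Fi23Cent.card_CW.trans (by norm_num)
  · exact H153.Pw.Fi23Nine.card_rep3.le.trans (by norm_num)

end Fv

open Fv

theorem boxOut22 : BoxOut22 := by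
  intro S hS hm hn v hv
  have hs : IsSimpleGroup Spor.Fi22 := S1696.result.1
  have _ : Finite Spor.Fi22 := Nat.finite_of_card_ne_zero (by rw [card22]; norm_num)
  have hT := as_inn nc22
  by_contra hvT
  obtain ⟨k, m, hmo, hkm⟩ := Nat.exists_eq_two_pow_mul_odd (orderOf_pos v).ne'
  have hsT : v ^ m ∉ InnG Spor.Fi22 := by
    intro h
    obtain ⟨j, rfl⟩ := hmo
    rw [pow_succ, pow_mul] at h
    exact hvT ((mul_mem_cancel_left (pow_mem (sq_mem_of_index_two index22 v) j)).1 h)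
  have hsC : v ^ m ∈ core 2 S := by
    obtain ⟨w, hw, rfl⟩ := hv
    refine ⟨w ^ m, H761.F2.mem_pCore_of_mem_fitting Nat.prime_two (pow_mem hw m) (k := k) (Subtype.ext ?_), rfl⟩
    show ((w : MulAut Spor.Fi22) ^ m) ^ 2 ^ k = 1
    rw [← pow_mul, mul_comm, ← hkm]
    exact pow_orderOf_eq_one _
  generalize v ^ m = s at hsT hsC
  have hb := hn (core 2 S ⊓ InnG Spor.Fi22) (inf_le_inf_right _ (map_subtype_le _)) ((core_pgroup 2).to_le inf_le_left)
    fun g hg x hx => mem_inf.2 ⟨core_conj 2 g hg x hx.1, hT.normal.conj_mem x hx.2 g⟩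
  have h1 : ∀ x ∈ core 2 S, x ∈ InnG Spor.Fi22 → x = 1 := fun x h1 h2 => by
    have : x ∈ core 2 S ⊓ InnG Spor.Fi22 := mem_inf.2 ⟨h1, h2⟩
    rwa [hb, mem_bot] at this
  have h2 : s * s = 1 := h1 _ (mul_mem hsC hsC) (mul_self_mem_of_index_two index22 s)
  have h3 : ∀ g ∈ S, g * s * g⁻¹ = s := fun g hg => by
    refine mul_inv_eq_one.1 (h1 _ (mul_mem (core_conj 2 g hg s hsC) (inv_mem hsC)) ?_)
    rw [mul_mem_iff_of_index_two index22, inv_mem_iff, hT.normal.mem_comm_iff, inv_mul_cancel_left]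
  have hsS : zpowers s ≤ S := zpowers_le.2 (map_subtype_le _ hsC)
  refine SporB.outer22 h2 hsT (H := R1.innS S) (fun g hg => ?_) (R1.innS_solvable nc22 hS)
  refine hm.mem_of_centralizes hT (X := zpowers s) (fun h => hsT ?_) (fun h => hT.not_le hS (h.trans hsS))
    (fun a ha x hx => ?_) ⟨g, rfl⟩ fun x hx => ?_
  · rw [zpowers_eq_bot.1 h]
    exact one_mem _
  · obtain ⟨i, rfl⟩ := mem_zpowers_iff.1 hx
    rw [← conj_zpow, h3 a ha]
    exact hx
  · obtain ⟨i, rfl⟩ := mem_zpowers_iff.1 hx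
    have h4 : Commute (MulAut.conj g) s := by
      have h5 := R1.conj_conj s g
      rw [hg, mul_inv_eq_iff_eq_mul] at h5
      exact h5.symm
    exact (h4.zpow_right i).eq

theorem boxFive22 : BoxFive22 := by
  intro S hS hn hF h5
  have hs : IsSimpleGroup Spor.Fi22 := S1696.result.1
  have _ : Finite Spor.Fi22 := Nat.finite_of_card_ne_zero (by rw [card22]; norm_num)
  have hi : Spor.IsoFi22 Spor.Fi22 := ⟨MulEquiv.refl _⟩
  have hc : ∀ g : Spor.Fi22, Nat.card ↥(InnG Spor.Fi22 ⊓ centralizer {MulAut.conj g}) =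
      Nat.card (centralizer ({g} : Set Spor.Fi22)) := by
    intro g
    rw [inf_comm, R1.card_comap nc22, R1.comap_centralizer nc22]
    congr 2
    ext x
    rw [R1.mem_fixS, mem_centralizer_singleton_iff, MulAut.conj_apply, mul_inv_eq_iff_eq_mul, eq_comm]
  have ho : ∀ g : Spor.Fi22, orderOf (MulAut.conj g) = orderOf g := orderOf_injective _ (conj_injective nc22)
  refine fitReg_five (innG_normal _) (c₃ := 19595520) (c₅ := 600) (a := 3) (b := 25) ?_ ?_ ?_ (by norm_num) ?_ hS hn hF h5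
  · rintro _ ⟨g, rfl⟩ h
    rw [hc]
    exact H759.Ore.Fi22Cent.card_le (MulEquiv.refl _) (by rwa [ho] at h)
  · rintro _ ⟨g, rfl⟩ hp h
    rw [hc]
    rw [ho] at hp h
    rcases cases22 hp h (card22 ▸ orderOf_dvd_natCard g) with h1 | h1 | h1 | h1
    · rw [H559.FiSpec.cent5 hi h1]
      exact ⟨le_rfl, fun j hj => pow_le (k := 1) (by norm_num) hj (by norm_num)⟩
    · rw [H559.FiSpec.cent7 hi h1]
      exact ⟨by norm_num, fun j hj => pow_le (k := 1) (by norm_num) hj (by norm_num)⟩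
    · rw [H559.FiSpec.cent11 hi h1]
      exact ⟨by norm_num, fun j hj => pow_le (k := 1) (by norm_num) hj (by norm_num)⟩
    · rw [H559.FiSpec.cent13 hi h1]
      exact ⟨by norm_num, fun j hj => pow_le (k := 1) (by norm_num) hj (by norm_num)⟩
  · rw [R1.card_inn nc22, card22]
    refine pow25 (fun p hp h hd => ?_) (by norm_num)
    rcases cases22 hp h hd with rfl | rfl | rfl | rfl <;> norm_num
  · rw [R1.card_inn nc22, card22, index22]
    norm_num

theorem boxFive23 : BoxFive23 := by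
  intro S hS hn h5
  have _ : Finite Spor.Fi23 := H569.PD.Fi23.finite
  refine fitReg_five normal_top (c₃ := 13756055040) (c₅ := 25200) (a := 9) (b := 25) ?_ ?_ ?_ (by norm_num) ?_ hS hn
    le_top h5
  · intro g _ h
    rw [top_inf_eq]
    exact three23 h
  · intro g _ hp h
    rw [top_inf_eq]
    rcases cases23 hp h (H569.PD.Fi23.hc ▸ orderOf_dvd_natCard g) with h1 | h1 | h1 | h1 | h1 | h1
    · rw [H841.PB.FiTwentyThree.card_cent_five h1]
      exact ⟨by norm_num, fun j hj => pow_le (k := 2) (by norm_num) hj (by norm_num)⟩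
    · rw [H841.PB.FiTwentyThree.card_cent_seven h1]
      exact ⟨by norm_num, fun j hj => pow_le (k := 2) (by norm_num) hj (by norm_num)⟩
    · rw [H702.BR.FiFive.card_C11_elt h1]
      exact ⟨by norm_num, fun j hj => pow_le (k := 2) (by norm_num) hj (by norm_num)⟩
    · rw [← H841.PB.FiTwentyThree.cent_zp, H702.BR.FiFive.card_C13 _ (by rw [Nat.card_zpowers, h1])]
      exact ⟨by norm_num, fun j hj => pow_le (k := 2) (by norm_num) hj (by norm_num)⟩
    · rw [H841.PB.FiTwentyThree.card_cent_17 h1]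
      exact ⟨by norm_num, fun j hj => pow_le (k := 2) (by norm_num) hj (by norm_num)⟩
    · rw [H569.PD.Fi23.sc g h1]
      exact ⟨by norm_num, fun j hj => pow_le (k := 2) (by norm_num) hj (by norm_num)⟩
  · rw [card_top, H569.PD.Fi23.hc]
    refine pow25 (fun p hp h hd => ?_) (by norm_num)
    rcases cases23 hp h hd with rfl | rfl | rfl | rfl | rfl | rfl <;> norm_num
  · rw [card_top, H569.PD.Fi23.hc, index_top]
    norm_num

end Cfsg.Agent.SB.SporD.Fi
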