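import Cfsg.Agent.SB.SporD.Fi.Defs
import Cfsg.Agent.SB.Par.Fam
import Cfsg.Agent.OddHalf.NI.Mult.Torus

/-!
# S5765, the rows `Fi22` and `Fi23`: Borel–Tits and the opposite parabolic subgroup (helper52)
-/

set_option autoImplicit false

namespace Cfsg.Agent.SB.SporD.Fi

open Cfsg CoxeterSystem Cfsg.Agent.ChevalleyStructure.CoxeterGeom Cfsg.Agent.Tits.Roots Cfsg.Agent.Tits.Core
  Cfsg.Agent.Tits.Exchange Cfsg.Agent.Nodes.Reps Cfsg.Agent.Nodes.BNOf Cfsg.Agent.Nodes.Bruhat Cfsg.Agent.Nodes.OppDec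
  Cfsg.Agent.Nodes.LeviDec Cfsg.Agent.KFacts.RgdDiag Cfsg.Agent.KFacts.RgdCharP Cfsg.Agent.KFacts.RgdLieCharP Cfsg.Agent.KFacts.RgdAut
  Cfsg.Agent.Omega.ML.Ex.Typ Cfsg.Agent.SB.Par Cfsg.Agent.Nodes

namespace Op

theorem opp_of {p l : ℕ} [Fact p.Prime] {Y : Type*} [Group Y] [Finite Y] (hF : IsLieFilt p Y) {M : CoxeterMatrix (Fin l)}
    (hT : HasRGDT p M Y) (ho : ∀ [Finite M.Group] i, op M.toCoxeterSystem i = i) : Opp p Y := by
  obtain ⟨A, h, T, n, X, _, R, hX⟩ := hT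
  have hG : GG M.toCoxeterSystem h T X = ⊤ := KFacts.RgdRigid.GG_eq_top hX
  intro F hp
  by_cases h0 : F = ⊥
  · exact ⟨1, fun v hv _ => by rwa [h0, Subgroup.mem_bot] at hv⟩
  obtain ⟨V, h1, h2, h3, U, h4, h5⟩ := bti_of_filt (hasFilt_of_lie hF) F hp h0
  obtain ⟨g, rfl⟩ := (maxP_U R hG).exists_cj h4
  have h6 := eq_PJ R hG (P := Subgroup.normalizer (cj g⁻¹ V : Set Y)) (by
    rw [normalizer_cj, ← normalizer_U' R hG, ← cj_le_cj_iff g, cj_cj_inv, ← normalizer_cj]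
    exact h5) (J := {i | n i ∈ Subgroup.normalizer (cj g⁻¹ V : Set Y)}) fun _ => Iff.rfl
  have h7 := le_VJ R hG (E := cj g⁻¹ V) (h1.map _) fun x hx e he => (Subgroup.mem_normalizer_iff.1 (h6 ▸ hx) e).1 he
  obtain ⟨k, hk⟩ := exists_rp M.toCoxeterSystem R.nsys (w0 M.toCoxeterSystem)
  refine ⟨g * k * g⁻¹, fun v hv hn => ?_⟩
  have h8 := eq_one_of_mem_VJ_of_mem_PNJ R (h7 (conj_mem_cj.2 (h2 hv))) (by
    rw [← cj_PJ R hG hk fun i => by rw [ho], mem_cj, ← h6, normalizer_cj, mem_cj]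
    simpa only [mul_inv_rev, inv_inv, mul_assoc] using h3 hn)
  exact conj_eq_one_iff.1 h8

theorem op_B3 [Finite (CoxeterMatrix.B 3).Group] (i : Fin 3) : op (CoxeterMatrix.B 3).toCoxeterSystem i = i := by
  have h : ∀ a b c : Fin 3, CoxeterMatrix.B 3 a b = CoxeterMatrix.B 3 0 1 → CoxeterMatrix.B 3 b c = CoxeterMatrix.B 3 1 2 →
      CoxeterMatrix.B 3 a c = CoxeterMatrix.B 3 0 2 → a = 0 ∧ b = 1 ∧ c = 2 := by
    intro a b c; fin_cases a <;> fin_cases b <;> fin_cases c <;> decide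
  obtain ⟨h0, h1, h2⟩ := h _ _ _ (matrix_op (cs := (CoxeterMatrix.B 3).toCoxeterSystem) 0 1) (matrix_op 1 2) (matrix_op 0 2)
  fin_cases i
  exacts [h0, h1, h2]

theorem op_D4 [Finite (TypeD.M 2).Group] (i : Fin 4) : op (TypeD.M 2).toCoxeterSystem i = i := by
  set cs := (TypeD.M 2).toCoxeterSystem
  have h := TypeD.isCartan 2
  have hA : TypeD.A 2 = ![![2, -1, 0, 0], ![-1, 2, -1, -1], ![0, -1, 2, 0], ![0, -1, 0, 2]] := by decide
  have s0 : ∀ a b c d : ℤ, rep cs h (cs.simple 0) ![a, b, c, d] = ![b - a, b, c, d] := fun a b c d => by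
    rw [rep_simple_eq]; funext k; fin_cases k <;> simp [pairing, hA, Fin.sum_univ_four, sr] <;> ring
  have s1 : ∀ a b c d : ℤ, rep cs h (cs.simple 1) ![a, b, c, d] = ![a, a + c + d - b, c, d] := fun a b c d => by
    rw [rep_simple_eq]; funext k; fin_cases k <;> simp [pairing, hA, Fin.sum_univ_four, sr] <;> ring
  have s2 : ∀ a b c d : ℤ, rep cs h (cs.simple 2) ![a, b, c, d] = ![a, b, b - c, d] := fun a b c d => by
    rw [rep_simple_eq]; funext k; fin_cases k <;> simp [pairing, hA, Fin.sum_univ_four, sr] <;> ring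
  have s3 : ∀ a b c d : ℤ, rep cs h (cs.simple 3) ![a, b, c, d] = ![a, b, c, b - d] := fun a b c d => by
    rw [rep_simple_eq]; funext k; fin_cases k <;> simp [pairing, hA, Fin.sum_univ_four, sr] <;> ring
  have hs : ∀ a b c d : ℤ, rep cs h (cs.simple 0 * cs.simple 1 * cs.simple 2 * cs.simple 3) ![a, b, c, d] =
      ![b - c - d, a + b - c - d, b - c, b - d] := fun a b c d => by
    rw [rep_mul_apply, rep_mul_apply, rep_mul_apply, s3, s2, s1, s0]
    funext k; fin_cases k <;> simp <;> ring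
  have h1 : ∀ j, rep cs h (w0 cs * (cs.simple 0 * cs.simple 1 * cs.simple 2 * cs.simple 3) ^ 3) (sr j) = sr (op cs j) :=
    fun j => by
      have h2 : ∀ x : Fin 4 → ℤ, x = ![x 0, x 1, x 2, x 3] := fun x => by funext k; fin_cases k <;> rfl
      rw [pow_three, rep_mul_apply, rep_mul_apply, rep_mul_apply _ _ (_ * _ * _ * _), h2 (sr j), hs, hs, hs,
        ← neg_neg (sr (op cs j)), ← rep_w0_sr (h := h), ← map_neg]
      congr 1
      funext k; fin_cases k <;> simp <;> ring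
  have h2 := h1 i
  rw [OddHalf.NI.Mult.eq_one_of_nonneg cs h (v := w0 cs * _) fun j => (h1 j).symm ▸ sr_nonneg _, map_one,
    Module.End.one_apply] at h2
  by_contra h3
  exact one_ne_zero ((sr_self _).symm.trans ((congrFun h2 _).symm.trans (sr_ne h3)))

end Op

/-- **Borel–Tits in `O₇(3)` and `O₈⁺(3)`** -/
theorem boxOpp : BoxOpp :=
  ⟨Op.opp_of (.inr (.inr (.inr (.inl ⟨ZMod 3, inferInstance, inferInstance, inferInstance, 3, le_rfl, by rw [ZMod.card]; decide, ⟨.refl _⟩⟩))))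
      (H938.typ_PO_odd (by decide) (by decide)) Op.op_B3,
    Op.opp_of (.inr (.inr (.inr (.inr (.inl ⟨ZMod 3, inferInstance, inferInstance, inferInstance, 4, le_rfl, ⟨.refl _⟩⟩))))) (typ_PO_plus 1) Op.op_D4⟩

end Cfsg.Agent.SB.SporD.Fi
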