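import Cfsg.Agent.SB.SporD.Fi.Three
import Cfsg.Agent.SB.SporD.Fi.Two
import Cfsg.Agent.SB.SporD.Fi.D23
import Cfsg.Agent.SB.SporD.Fi.Opp
import Cfsg.Agent.SB.SporD.Fi.Five
import Cfsg.Agent.SB.SporA.Gen
import Cfsg.Agent.SB.Spor.Crit
import Cfsg.Agent.S2080

/-!
# S5765, the row `Fi23` (helper93)
-/

set_option autoImplicit false

namespace Cfsg.Agent.SB.SporD.Fi

open Subgroup Cfsg

theorem row23 : Row Spor.Fi23 := by
  have := LThreeFi23.nsimple
  refine SporA.row_of_top TD.ncomm S2080.result fun S hS hm => Or.inl ?_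
  obtain ⟨D, hD⟩ := boxD23
  have hi := conj_injective TD.ncomm
  have hn : NPar 2 ⊤ S := by
    refine NPar.of_map MulAut.conj hi ?_
    have h1 := hm.map MulAut.conj hi
    rw [Spor.map_top_conj] at h1 ⊢
    exact boxTwo _ TD.ncomm D hD _ (Group.isSolvable_of_surjective (f := MonoidHom.subgroupMap MulAut.conj S)
      (MonoidHom.subgroupMap_surjective _ S)) h1
  by_cases h5 : ∃ c ∈ fit S, (orderOf c).Prime ∧ 5 ≤ orderOf c
  · exact boxFive23 S hS hn h5
  have := TD.fact3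
  refine boxThree23_of boxOpp S hS hm (IsPGroup.iff_card.2 ⟨_,
    Nat.eq_prime_pow_of_unique_prime_dvd Nat.card_pos.ne' fun {q} hq hd => ?_⟩)
  have : Fact q.Prime := ⟨hq⟩
  obtain ⟨y, hy⟩ := exists_prime_orderOf_dvd_card' _ hd
  have hy' : orderOf (y : Spor.Fi23) = q := by rw [Subgroup.orderOf_coe, hy]
  rcases Mon.prime_cases hq with h1 | h1 | h1
  · have h2 := Mon.mem_core y.2 Nat.prime_two (hy'.trans h1)
    rw [hn (Mon.core 2 S) (le_inf (map_subtype_le _) le_top) (Mon.core_pgroup 2) (Mon.core_conj 2), mem_bot] at h2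
    rw [h2, orderOf_one] at hy'
    omega
  · exact h1
  · exact absurd ⟨y, y.2, hy' ▸ hq, hy' ▸ h1⟩ h5

/-- **the row `Fi23`** -/
theorem row_Fi23 (K : Type*) [Group K] [Finite K] (h : Spor.IsoFi23 K) : Row K := by
  obtain ⟨e⟩ := h
  exact Row.of_equiv e row23

theorem box_Fi23 : Box fun K _ => Spor.IsoFi23 K := fun K _ _ _ _ h => row_Fi23 K h

end Cfsg.Agent.SB.SporD.Fi
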