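import Cfsg.Agent.SB.Master
import Cfsg.Agent.SB.Split
import Cfsg.Prelude.Def_Spor_Fi22
import Cfsg.Prelude.Def_Spor_Fi23
import Cfsg.Prelude.Def_Classical

/-!
# S5765, the rows `Fi22` and `Fi23`: interface (helper93)

See `notes/SB/fi2223.md` for the proofs on paper.
-/

set_option autoImplicit false

namespace Cfsg.Agent.SB.SporD.Fi

open Subgroup Cfsg Cfsg.Agent.H786.FC

/-- the members of `D` which commute with all members of `E` -/
def CD {G : Type*} [Group G] (D E : Set G) : Set G := {d | d ∈ D ∧ ∀ e ∈ E, Commute d e}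

/-- a class of 3-transpositions of Fischer type -/
structure Two {G : Type*} [Group G] (D : Set G) : Prop where
  sq : ∀ a ∈ D, a * a = 1
  ne : ∀ a ∈ D, a ≠ 1
  aut : ∀ σ : MulAut G, ∀ a ∈ D, σ a ∈ D
  three : ∀ a ∈ D, ∀ b ∈ D, ¬ Commute a b → a * b * a = b * a * b
  /-- a product of two commuting members determines its factors -/
  uniq : ∀ a ∈ D, ∀ b ∈ D, ∀ c ∈ D, ∀ d ∈ D, a ≠ b → Commute a b → Commute c d → a * b = c * d → c = a ∨ c = b
  /-- the set of all factors of an involution (2, 3 or 6 members) -/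
  invol : ∀ r : G, r * r = 1 → r ≠ 1 → r ∉ D → ∃ H : Finset G, (∀ h ∈ H, h ∈ D) ∧ (∀ h ∈ H, ∀ k ∈ H, Commute h k) ∧
    ¬ 4 ∣ H.card ∧ (∀ g : G, Commute g r → ∀ h ∈ H, g * h * g⁻¹ ∈ H) ∧
      ∀ h ∈ H, ∀ k ∈ H, h ≠ k → ∀ x ∈ D, ∀ y ∈ D, x ≠ y → Commute x y → r * h * k ≠ x * y
  /-- cliques -/
  clique : ∀ E : Set G, E ⊆ D → E.Nonempty → (∀ a ∈ E, ∀ b ∈ E, Commute a b) →
    ¬ Group.IsSolvable (normalizer (closure (CD D E) : Set G))
  /-- the centraliser of a symmetric group of degree four -/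
  tri : ∀ a ∈ D, ∀ b ∈ D, ∀ c ∈ D, a ≠ c → Commute a c → ¬ Commute a b → ¬ Commute c b →
    ¬ Group.IsSolvable (centralizer ({a, b, c} : Set G))

/-- `O₂(S ⊓ T) = 1` -/
def BoxTwo : Prop :=
  ∀ (G : Type) [Group G] [Finite G] [IsSimpleGroup G], ¬ IsMulCommutative G → ∀ D : Set G, Two D →
    ∀ S : Subgroup (MulAut G), Group.IsSolvable S → MaxInv (InnG G) S → NPar 2 (InnG G) S

def BoxD22 : Prop := ∃ D : Set Spor.Fi22, Two D

def BoxD23 : Prop := ∃ D : Set Spor.Fi23, Two D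

/-- a `p`-subgroup meets some conjugate of its normaliser trivially -/
def Reg {Y : Type*} [Group Y] (F : Subgroup Y) : Prop :=
  ∃ x : Y, ∀ v ∈ F, x⁻¹ * v * x ∈ normalizer (F : Set Y) → v = 1

/-- Borel–Tits and the opposite parabolic subgroup -/
def Opp (p : ℕ) (Y : Type*) [Group Y] : Prop := ∀ F : Subgroup Y, IsPGroup p F → Reg F

def BoxOpp : Prop :=
  Opp 3 (POmega (ZMod 3) (quadFormOdd 3 (ZMod 3))) ∧ Opp 3 (POmega (ZMod 3) (quadFormPlus 4 (ZMod 3)))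

/-- no outer element in the Fitting subgroup -/
def BoxOut22 : Prop :=
  ∀ S : Subgroup (MulAut Spor.Fi22), Group.IsSolvable S → MaxInv (InnG Spor.Fi22) S → NPar 2 (InnG Spor.Fi22) S →
    fit S ≤ InnG Spor.Fi22

/-- the primes `p ≥ 5`, `Fi22` -/
def BoxFive22 : Prop :=
  ∀ S : Subgroup (MulAut Spor.Fi22), Group.IsSolvable S → NPar 2 (InnG Spor.Fi22) S → fit S ≤ InnG Spor.Fi22 →
    (∃ c ∈ fit S, (orderOf c).Prime ∧ 5 ≤ orderOf c) → FitReg (InnG Spor.Fi22) S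

/-- the primes `p ≥ 5`, `Fi23` -/
def BoxFive23 : Prop :=
  ∀ S : Subgroup Spor.Fi23, Group.IsSolvable S → NPar 2 ⊤ S →
    (∃ c ∈ fit S, (orderOf c).Prime ∧ 5 ≤ orderOf c) → FitReg ⊤ S

/-- the prime 3, `Fi23` -/
def BoxThree23 : Prop :=
  ∀ S : Subgroup Spor.Fi23, Group.IsSolvable S → MaxInv ⊤ S → IsPGroup 3 (fit S) → FitReg ⊤ S

end Cfsg.Agent.SB.SporD.Fi
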