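import Cfsg.Agent.SB.Mon.Odd
import Cfsg.Agent.SB.Mon.F24.Geo
import Cfsg.Agent.SB.SporD.Fi.Defs

/-!
# S5765, the rows `Fi22`, `Fi23`: extraspecial groups, singular sets, Sylow subgroups (helper93)

The proofs of `Es.dep` and `sing3` are those of `SB/Mon/F24/Geo.lean` (helper56), with weaker hypotheses.
-/

set_option autoImplicit false

namespace Cfsg.Agent.SB.SporD.Fi

open Subgroup Cfsg
open Cfsg.Agent.SB.F24.Geo (zp mem_of_zp comm_zp conj_comm comm_of_eq_one conj_of_comm mem_cen conj_closure le_norm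
  conj_inv_shift El)

/-- Sylow's theorem in a subgroup -/
theorem conj_into {G : Type*} [Group G] [Finite G] {p k : ℕ} [hp : Fact p.Prime] {H E T : Subgroup G} (hE : E ≤ H)
    (hEp : IsPGroup p E) (hcE : p ^ k ≤ Nat.card E) (hH : ¬ p ^ (k + 1) ∣ Nat.card H) (hT : T ≤ H) (hTp : IsPGroup p T) :
    ∃ g ∈ H, ∀ x ∈ T, g * x * g⁻¹ ∈ E := by
  obtain ⟨S1, hS1⟩ := (hEp.of_equiv (subgroupOfEquivOfLe hE).symm).exists_le_sylow
  obtain ⟨S2, hS2⟩ := (hTp.of_equiv (subgroupOfEquivOfLe hT).symm).exists_le_sylow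
  have hEq : E.subgroupOf H = (S1 : Subgroup H) := by
    apply eq_of_le_of_card_ge hS1
    rw [Nat.card_congr (subgroupOfEquivOfLe hE).toEquiv]
    refine le_trans ?_ hcE
    obtain ⟨n, hn⟩ := IsPGroup.iff_card.1 S1.isPGroup'
    rw [hn]
    refine Nat.pow_le_pow_right hp.out.pos ?_
    by_contra hlt
    exact hH ((pow_dvd_pow p (by omega)).trans (hn ▸ card_subgroup_dvd_card _))
  obtain ⟨g, hg⟩ := MulAction.exists_smul_eq H S2 S1
  refine ⟨g, g.2, fun x hx => ?_⟩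
  have h2 : g * ⟨x, hT hx⟩ * g⁻¹ ∈ ((g • S2 : Sylow p H) : Subgroup H) := by
    rw [Sylow.coe_subgroup_smul]
    exact ⟨_, hS2 (mem_subgroupOf.2 hx), rfl⟩
  rw [hg, ← hEq, mem_subgroupOf] at h2
  exact h2

/-- a subgroup which is conjugate to a subgroup of a group with `Opp` -/
theorem reg_of_opp {G Y : Type*} [Group G] [Group Y] {p : ℕ} (φ : Y →* G) (hφ : Function.Injective φ) (hY : Opp p Y)
    {F : Subgroup G} (hF : IsPGroup p F) {g : G} (h : ∀ f ∈ F, g * f * g⁻¹ ∈ φ.range) :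
    ∃ y : Y, ∀ v ∈ F, (g⁻¹ * φ y * g)⁻¹ * v * (g⁻¹ * φ y * g) ∈ normalizer (F : Set G) → v = 1 := by
  let ψ : Y →* G := (MulAut.conj g⁻¹).toMonoidHom.comp φ
  have hψ : Function.Injective ψ := (MulAut.conj g⁻¹).injective.comp hφ
  have e : ∀ y, ψ y = g⁻¹ * φ y * g := fun y => by
    show g⁻¹ * φ y * g⁻¹⁻¹ = _
    rw [inv_inv]
  obtain ⟨y, hy⟩ := hY (F.comap ψ) (hF.comap_of_injective ψ hψ)
  refine ⟨y, fun v hv h1 => ?_⟩
  obtain ⟨w, hw⟩ := h v hv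
  have h2 : ψ w = v := by rw [e, hw]; group
  rw [← h2, hy w (by show ψ w ∈ F; rwa [h2]) (mem_normalizer_iff.2 fun z => ?_), map_one]
  show ψ z ∈ F ↔ ψ (y⁻¹ * w * y * z * (y⁻¹ * w * y)⁻¹) ∈ F
  rw [← e, ← h2, ← map_inv, ← map_mul, ← map_mul] at h1
  rw [map_mul, map_mul, map_inv]
  exact mem_normalizer_iff.1 h1 _

variable {G : Type} [Group G]

/-- `Q` is extraspecial with centre `⟨p⟩` of order three -/
structure Es (p : G) (Q : Subgroup G) : Prop where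
  cube : p ^ 3 = 1
  ne : p ≠ 1
  self : p ∈ Q
  cen : ∀ x ∈ Q, Commute x p
  com : ∀ x ∈ Q, ∀ y ∈ Q, x * y * x⁻¹ * y⁻¹ ∈ zpowers p
  nd : ∀ a ∈ Q, (∀ x ∈ Q, Commute a x) → a ∈ zpowers p

namespace Es

variable {p : G} {Q : Subgroup G} (H : Es p Q)

include H

theorem conj (g : G) : Es (g * p * g⁻¹) (Q.map (MulAut.conj g).toMonoidHom) where
  cube := by rw [conj_pow, H.cube, mul_one, mul_inv_cancel]
  ne := fun h => H.ne (by rwa [conj_eq_one_iff] at h)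
  self := ⟨p, H.self, rfl⟩
  cen := by
    rintro _ ⟨x, hx, rfl⟩
    exact conj_comm (H.cen x hx) g
  com := by
    rintro _ ⟨x, hx, rfl⟩ _ ⟨y, hy, rfl⟩
    obtain ⟨k, hk⟩ := H.com x hx y hy
    refine ⟨k, ?_⟩
    show (g * p * g⁻¹) ^ k = g * x * g⁻¹ * (g * y * g⁻¹) * (g * x * g⁻¹)⁻¹ * (g * y * g⁻¹)⁻¹
    rw [conj_zpow, show p ^ k = _ from hk]
    group
  nd := by
    rintro _ ⟨a, ha, rfl⟩ h
    obtain ⟨k, hk⟩ := H.nd a ha fun x hx => (MulAut.conj g).injective (by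
      rw [map_mul, map_mul]
      exact h _ ⟨x, hx, rfl⟩)
    refine ⟨k, ?_⟩
    show (g * p * g⁻¹) ^ k = g * a * g⁻¹
    rw [conj_zpow, show p ^ k = _ from hk]

theorem order : orderOf p = 3 :=
  have : Fact (Nat.Prime 3) := ⟨Nat.prime_three⟩
  orderOf_eq_prime H.cube H.ne

theorem card_ab [Finite G] {A : Subgroup G} (hA : A ≤ Q) (h : ∀ x ∈ A, ∀ y ∈ A, x * y = y * x) :
    Nat.card A * Nat.card A ≤ 3 * Nat.card Q :=
  Mon.card_mul_le Nat.prime_three H.order H.cen H.com H.nd hA hA h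

theorem card_cent [Finite G] {A : Subgroup G} {x : G} (h : ∀ a ∈ A, a * x * a⁻¹ * x⁻¹ ∈ zpowers p) :
    Nat.card A ≤ 3 * Nat.card ↥(A ⊓ centralizer {x}) := by
  have h1 := F24.Geo.card_le_mul A (zpowers p) x h
  rwa [Nat.card_zpowers, H.order] at h1

theorem shift' {x a : G} (hx : x ∈ Q) (ha : a ∈ Q) (h : ¬ Commute x a) :
    ∃ y, (y = x ∨ y = x⁻¹) ∧ y * a * y⁻¹ = a * p := by
  have h1 := H.com x hx a ha
  have e : x * a * x⁻¹ = a * (x * a * x⁻¹ * a⁻¹) := by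
    rw [(comm_zp (H.cen a ha) h1).eq, inv_mul_cancel_right]
  rcases zp H.cube h1 with h2 | h2 | h2
  · exact absurd (comm_of_eq_one h2) h
  · exact ⟨x, Or.inl rfl, by rwa [h2] at e⟩
  · rw [h2] at e
    have h3 := conj_inv_shift e (H.cen x hx).inv_right
    exact ⟨x⁻¹, Or.inr rfl, by rwa [inv_inv p] at h3⟩

theorem shift {a : G} (ha : a ∈ Q) (h : a ∉ zpowers p) : ∃ y ∈ Q, y * a * y⁻¹ = a * p := by
  obtain ⟨x, hx, h1⟩ : ∃ x ∈ Q, ¬ Commute x a := by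
    by_contra h2
    push Not at h2
    exact h (H.nd a ha fun x hx => (h2 x hx).symm)
  obtain ⟨y, rfl | rfl, h2⟩ := H.shift' hx ha h1
  · exact ⟨_, hx, h2⟩
  · exact ⟨_, inv_mem hx, h2⟩

theorem dep {a b : G} (ha : a ∈ Q) (hb : b ∈ Q) (h : ∀ x ∈ Q, Commute x a → Commute x b) :
    ∃ z ∈ zpowers a, b * z ∈ zpowers p := by
  by_cases h1 : a ∈ zpowers p
  · exact ⟨1, one_mem _, by
      rw [mul_one]
      exact H.nd b hb fun x hx => (h x hx (comm_zp (H.cen x hx) h1)).symm⟩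
  obtain ⟨y, hy, e⟩ := H.shift ha h1
  obtain ⟨z, hz, h2⟩ : ∃ z ∈ zpowers a, Commute y (b * z) := by
    by_cases h3 : Commute y b
    · exact ⟨1, one_mem _, by rwa [mul_one]⟩
    obtain ⟨y', rfl | rfl, e'⟩ := H.shift' hy hb h3
    · refine ⟨a⁻¹, inv_mem (mem_zpowers a), mul_inv_eq_iff_eq_mul.1 ?_⟩
      calc y' * (b * a⁻¹) * y'⁻¹ = (y' * b * y'⁻¹) * (y' * a * y'⁻¹)⁻¹ := by group
        _ = _ := by rw [e, e']; group
    · refine ⟨a, mem_zpowers a, (Commute.inv_left_iff.1 (mul_inv_eq_iff_eq_mul.1 ?_))⟩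
      calc y⁻¹ * (b * a) * y⁻¹⁻¹ = (y⁻¹ * b * y⁻¹⁻¹) * (y⁻¹ * a * y⁻¹⁻¹) := by group
        _ = b * (p * a) * p⁻¹ := by rw [e', conj_inv_shift e (H.cen y hy)]; group
        _ = _ := by rw [← (H.cen a ha).eq]; group
  refine ⟨z, hz, H.nd _ (mul_mem hb (zpowers_le.2 ha hz)) fun x hx => Commute.symm ?_⟩
  have key : ∀ x ∈ Q, Commute x a → Commute x (b * z) := fun x hx h3 => (h x hx h3).mul_right (comm_zp h3 hz)
  have key' : ∀ x ∈ Q, x * a * x⁻¹ = a * p → Commute x (b * z) := fun x hx h3 => by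
    have h4 := key (y⁻¹ * x) (mul_mem (inv_mem hy) hx) (mul_inv_eq_iff_eq_mul.1 (by
      calc y⁻¹ * x * a * (y⁻¹ * x)⁻¹ = y⁻¹ * (x * a * x⁻¹) * y := by group
        _ = a := by rw [h3, ← e]; group))
    have h5 := h2.mul_left h4
    rwa [mul_inv_cancel_left] at h5
  by_cases h3 : Commute x a
  · exact key x hx h3
  obtain ⟨x', rfl | rfl, e'⟩ := H.shift' hx ha h3
  · exact key' _ hx e'
  · exact Commute.inv_left_iff.1 (key' _ (inv_mem hx) e')

end Es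

theorem inf_zp {p w z : G} (hw : w ^ 3 = 1) (hn : w ∉ zpowers p) (h1 : z ∈ zpowers p) (h2 : z ∈ zpowers w) : z = 1 := by
  by_contra h
  exact hn (mem_of_zp hw h2 h h1)

/-- a singular set of rank at least three has a normalizer which is not solvable -/
theorem sing3 {I : Set G} {Q : G → Subgroup G} (hI : ∀ a ∈ I, Es a (Q a)) (hc : ∀ a ∈ I, ∀ b ∈ I, b ∈ Q a)
    {p q r : G} (hp : p ∈ I) (hq : q ∈ I) (hr : r ∈ I) (h1 : q ∉ zpowers p) (h2 : ∀ z ∈ zpowers q, r * z ∉ zpowers p) :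
    ¬ Group.IsSolvable (normalizer (closure I : Set G)) := by
  intro hs
  have hle : ∀ a ∈ I, closure I ≤ Q a := fun a ha => (closure_le _).2 (hc a ha)
  have hcm : ∀ a ∈ I, ∀ b ∈ I, Commute a b := fun a ha b hb => (hI b hb).cen a (hc b hb a ha)
  let Ind : G → G → G → Prop := fun a b c => a ∈ I ∧ b ∈ I ∧ c ∈ I ∧
    ∀ x ∈ zpowers a, ∀ y ∈ zpowers b, ∀ z ∈ zpowers c, x * y * z = 1 → x = 1 ∧ y = 1 ∧ z = 1
  have hz : ∀ {a b x y : G}, a ∈ I → b ∈ I → x ∈ zpowers a → y ∈ zpowers b → x * y = y * x := fun ha hb hx hy =>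
    (comm_zp (comm_zp (hcm _ hb _ ha) hx).symm hy).eq
  have s1 : ∀ a b c, Ind a b c → Ind a c b := fun a b c h => ⟨h.1, h.2.2.1, h.2.1, fun x hx y hy z hz' e => by
    rw [mul_assoc, hz h.2.2.1 h.2.1 hy hz', ← mul_assoc] at e
    have h3 := h.2.2.2 x hx z hz' y hy e
    exact ⟨h3.1, h3.2.2, h3.2.1⟩⟩
  have s2 : ∀ a b c, Ind a b c → Ind b a c := fun a b c h => ⟨h.2.1, h.1, h.2.2.1, fun x hx y hy z hz' e => by
    rw [hz h.2.1 h.1 hx hy] at e
    have h3 := h.2.2.2 y hy x hx z hz' e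
    exact ⟨h3.2.1, h3.1, h3.2.2⟩⟩
  have key : ∀ n, ∀ a b c, Ind a b c → ∃ x : ↥(normalizer (closure I : Set G)),
      x ∈ derivedSeries _ n ∧ El a b c x := by
    intro n
    induction n with
    | zero =>
      intro a b c h
      have ha := hI a h.1
      obtain ⟨x, hx, h3, h4⟩ : ∃ x ∈ Q a, Commute x c ∧ ¬ Commute x b := by
        by_contra h3
        push Not at h3
        obtain ⟨z, hz', h4⟩ := ha.dep (hc a h.1 c h.2.2.1) (hc a h.1 b h.2.1) h3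
        exact (hI b h.2.1).ne (h.2.2.2 _ (inv_mem h4) b (mem_zpowers b) z hz' (by group)).2.1
      have h5 : Q a ≤ normalizer (closure I : Set G) := le_norm fun g hg y hy => by
        have h6 := mul_mem (zpowers_le.2 (subset_closure h.1) (ha.com g hg y (hle a h.1 hy))) hy
        rwa [inv_mul_cancel_right] at h6
      obtain ⟨y, rfl | rfl, e⟩ := ha.shift' hx (hc a h.1 b h.2.1) h4
      · exact ⟨⟨y, h5 hx⟩, mem_top _, e, ha.cen _ hx, h3⟩
      · exact ⟨⟨x⁻¹, h5 (inv_mem hx)⟩, mem_top _, e, ha.cen _ (inv_mem hx), h3.inv_left⟩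
    | succ n ih =>
      intro a b c h
      obtain ⟨x, hx, h3⟩ := ih a c b (s1 _ _ _ h)
      obtain ⟨y, hy, h4⟩ := ih c b a (s1 _ _ _ (s2 _ _ _ (s1 _ _ _ h)))
      exact ⟨x * y * x⁻¹ * y⁻¹, commutator_mem_commutator hx hy, h3.comm (hcm a h.1 c h.2.2.1) h4⟩
  obtain ⟨n, hn⟩ := hs.solvable
  obtain ⟨x, hx, h3, -⟩ := key n p q r ⟨hp, hq, hr, fun x hx y hy z hz' e => by
    have h3 : z = 1 := by
      by_contra h3
      have h4 : z = (x * y)⁻¹ := eq_inv_of_mul_eq_one_right e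
      rcases zp (hI r hr).cube hz' with h5 | h5 | h5
      · exact h3 h5
      · refine h2 y hy ?_
        rw [← h5, h4, hz hp hq hx hy, mul_inv_rev, inv_mul_cancel_right]
        exact inv_mem hx
      · refine h2 y⁻¹ (inv_mem hy) ?_
        rw [← inv_inv r, ← h5, h4, inv_inv, mul_inv_cancel_right]
        exact hx
    rw [h3, mul_one] at e
    have h4 : y = 1 := inf_zp (hI q hq).cube h1 (by
      rw [eq_inv_of_mul_eq_one_right e]
      exact inv_mem hx) hy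
    rw [h4, mul_one] at e
    exact ⟨e, h4, h3⟩⟩
  rw [hn, mem_bot] at hx
  rw [hx, OneMemClass.coe_one, one_mul, inv_one, mul_one, left_eq_mul] at h3
  exact (hI p hp).ne h3

end Cfsg.Agent.SB.SporD.Fi
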