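import Cfsg.Agent.SB.SporD.Fi.TP

/-!
# S5765, the row `Fi23`, the prime 3: the class 3C, the coset `Q u`, the standard line (helper93)
-/

set_option autoImplicit false
set_option maxRecDepth 100000

namespace Cfsg.Agent.SB.SporD.Fi.TD

open Subgroup Cfsg
open Cfsg.Agent.Lib.PermNet Cfsg.Agent.Lib.PermNetOrbit Cfsg.Agent.LThreeFi23 Cfsg.Agent.Fischer.Fi23Hom
open Cfsg.Agent.H826.M23 Cfsg.Agent.H826.M23.Data Cfsg.Agent.H826.M23.Inst
open Cfsg.Agent.H837.X1 (eqPt rep)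
open Cfsg.Agent.H837.X3 (elw_rep x0 x0_pow)
open Cfsg.Agent.H838.Mono (CI)
open Cfsg.Agent.SB.F24.Geo (zp mem_of_zp conj_comm comm_of_eq_one conj_of_comm mem_cen closure_comm)
open Cfsg.Spor (Fi23)

/-- the number of fixed points -/
noncomputable def nfix (g : Fi23) : ℕ := ((Finset.range 31671).filter fun p => rho g p = p).card

theorem card_bits {M : ℕ} {R : ℕ → Prop} [DecidablePred R] (h : ∀ p, M.testBit p = true ↔ p < 31671 ∧ R p) :
    ((Finset.range 31671).filter R).card = Lib.PermNetPat.pc 15 M := by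
  rw [← Lib.PermNetPat.card_filter_testBit]
  congr 1
  ext p
  simp only [Finset.mem_filter, Finset.mem_range, h]
  exact ⟨fun h1 => ⟨by omega, h1⟩, fun h1 => h1.2⟩

theorem nfix_elw {w : List Lt} {n : ℕ} (h : Nat.beq (nfW w) n = true) : nfix (elw w) = n := by
  rw [← Nat.eq_of_beq_eq_true h]
  refine card_bits fun p => ?_
  rw [testBit_pattern, pat_cons]
  simp [Pat]

theorem nfix_le (g x : Fi23) : nfix x ≤ nfix (g * x * g⁻¹) := by
  refine Finset.card_le_card_of_injOn (rho g) (fun p hp => ?_) (rho g).injective.injOn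
  rw [Finset.mem_coe, Finset.mem_filter, Finset.mem_range] at hp ⊢
  refine ⟨act_lt g hp.1, ?_⟩
  rw [← Equiv.Perm.mul_apply, ← map_mul, inv_mul_cancel_right, map_mul, Equiv.Perm.mul_apply, hp.2]

theorem nfix_conj (g x : Fi23) : nfix (g * x * g⁻¹) = nfix x := by
  refine le_antisymm ?_ (nfix_le g x)
  have h := nfix_le g⁻¹ (g * x * g⁻¹)
  rwa [show g⁻¹ * (g * x * g⁻¹) * g⁻¹⁻¹ = x by group] at h

theorem nfix_inv (x : Fi23) : nfix x⁻¹ = nfix x := by
  unfold nfix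
  congr 1
  ext p
  simp only [Finset.mem_filter, map_inv, Equiv.Perm.inv_eq_iff_eq]
  exact ⟨fun h => ⟨h.1, h.2.symm⟩, fun h => ⟨h.1, h.2.symm⟩⟩

theorem nfix_ci {x y : Fi23} (h : CI x y) : nfix x = nfix y := by
  obtain ⟨g, h | h⟩ := h
  · rw [← h, nfix_conj]
  · rw [← nfix_inv y, ← h, nfix_conj]

/-- the class 3C -/
theorem ci135 {z : Fi23} (h3 : z ^ 3 = 1) (h : nfix z = 135) : CI z (elw H838.Three.y135) := by
  have h1 : z ≠ 1 := fun e => by
    have h2 : nfix z = 31671 := by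
      unfold nfix
      rw [e, map_one, Finset.filter_true_of_mem (p := fun p => (1 : Equiv.Perm ℕ) p = p) fun _ _ => rfl,
        Finset.card_range]
    omega
  obtain ⟨k, hk⟩ := H838.Three.classes h3 h1
  have h2 := nfix_ci hk
  rw [h] at h2
  fin_cases k
  · exact absurd (h2.trans (uu_eq ▸ nfix_elw nfA)) (by norm_num)
  · exact hk
  · exact absurd (h2.trans (nfix_elw nfB)) (by norm_num)
  · exact absurd (h2.trans (nfix_elw nfD)) (by norm_num)

theorem nfix_c0 : nfix (elw wc0) = 135 := nfix_elw nfc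

theorem nfix_x0 : nfix x0 = 135 := by
  have h : nfW H837.X1.x0w = Lib.PermNetPat.pc 15 (H837.X1.fixP []) := rfl
  have h1 := H837.X1.p0
  rw [← h] at h1
  exact nfix_elw (w := H837.X1.x0w) h1

theorem ci_c0 {z : Fi23} (h3 : z ^ 3 = 1) (h : nfix z = 135) : CI z (elw wc0) :=
  (ci135 h3 h).trans (ci135 (setup.Q_cube c0_mem) nfix_c0).symm

theorem rel_al : ext.Rel (elw wal) W.al := by
  have h := ext.rel_e W.al
  rwa [ext.e_al] at h

theorem rel_be : ext.Rel (elw wbe) ⟨0, 1, 2, 0⟩ := by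
  have h := ext.rel_e ⟨0, 1, 2, 0⟩
  rwa [e_be] at h

theorem ci_comm {x y g f : Fi23} (h : g * x * g⁻¹ = y ∨ g * x * g⁻¹ = y⁻¹) (hf : Commute f x) : Commute (g * f * g⁻¹) y := by
  have h1 := conj_comm hf g
  rcases h with h | h <;> rw [h] at h1
  exacts [h1, Commute.inv_right_iff.1 h1]

theorem not_dvd_c0 : ¬ 3 ^ (10 + 1) ∣ Nat.card (centralizer ({elw wc0} : Set Fi23)) := fun h => by
  obtain ⟨g, hg⟩ := (ci_c0 x0_pow nfix_x0).symm
  have h1 : (centralizer ({elw wc0} : Set Fi23)).map (MulAut.conj g).toMonoidHom ≤ H837.X4.N := by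
    rintro _ ⟨f, hf, rfl⟩
    exact mem_NN_of_commute (ci_comm hg (mem_cen.1 hf))
  have h2 := card_dvd_of_le h1
  rw [card_map_of_injective (MulAut.conj g).injective, H837.X4.card_N] at h2
  have h3 := h.trans h2
  norm_num at h3

theorem nine_le {H : Subgroup W} (h1 : W.al ∈ H) (h2 : (⟨0, 1, 2, 0⟩ : W) ∈ H) : 9 ≤ Nat.card H := by
  have h3 : ∀ p q : Fin 3 × Fin 3, W.al ^ p.1.val * (⟨0, 1, 2, 0⟩ : W) ^ p.2.val =
      W.al ^ q.1.val * (⟨0, 1, 2, 0⟩ : W) ^ q.2.val → p = q := by decide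
  have h4 := Nat.card_le_card_of_injective
    (fun p : Fin 3 × Fin 3 => (⟨_, mul_mem (pow_mem h1 p.1.val) (pow_mem h2 p.2.val)⟩ : H))
    fun p q e => h3 p q (congrArg Subtype.val e)
  rwa [Nat.card_prod, Nat.card_fin] at h4

/-- the 3-subgroups of the centralizer of an element of class 3C -/
theorem good_C {F : Subgroup Fi23} (hF : IsPGroup 3 F) {z : Fi23} (h3 : z ^ 3 = 1) (h : nfix z = 135)
    (hc : ∀ f ∈ F, Commute f z) : Good F := by
  have := fact3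
  obtain ⟨g, hg⟩ := ci_c0 h3 h
  have hle : centralizer {elw wc0} ⊓ A ≤ P := inf_le_right.trans A_le_P
  have h1 : 3 ^ 10 ≤ Nat.card ↥(centralizer {elw wc0} ⊓ A) := by
    have h2 := es.card_cent (A := Q) (x := elw wc0) fun a ha => es.com a ha _ c0_mem
    have h4 : Nat.card ↥(Q ⊓ centralizer {elw wc0}) ≤ Nat.card ↥(centralizer {elw wc0} ⊓ A ⊓ Q) :=
      card_le_of_le fun x hx => ⟨⟨hx.2, Q_le_A hx.1⟩, hx.1⟩
    have h5 := nine_le (H := ext.im (centralizer {elw wc0} ⊓ A))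
      ⟨_, ⟨mem_cen.2 (comw c0_al), al_mem⟩, rel_al⟩
      ⟨_, ⟨mem_cen.2 (comw c0_be), be_mem⟩, rel_be⟩
    rw [card_Q] at h2
    rw [ext.card_eq hle]
    exact le_trans (by norm_num) (Nat.mul_le_mul (show 3 ^ 8 ≤ _ by omega) h5)
  obtain ⟨k, -, hk⟩ := conj_into inf_le_left (pg_P.to_le hle) h1 not_dvd_c0
    (T := F.map (MulAut.conj g).toMonoidHom) (by
      rintro _ ⟨f, hf, rfl⟩
      exact mem_cen.2 (ci_comm hg (hc f hf))) (hF.map _)
  refine ⟨k * g, fun f hf => ?_⟩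
  have h2 := (hk _ ⟨f, hf, rfl⟩).2
  rwa [show k * g * f * (k * g)⁻¹ = k * (g * f * g⁻¹) * k⁻¹ by group]

theorem zp3 {p : Fi23} (hp : p ^ 3 = 1) (i : ℤ) : ∃ n : ℕ, n ∈ [0, 1, 2] ∧ p ^ i = p ^ n := by
  rcases zp hp (zpow_mem_zpowers p i) with h | h | h
  · exact ⟨0, by simp, h.trans (pow_zero p).symm⟩
  · exact ⟨1, by simp, h.trans (pow_one p).symm⟩
  · exact ⟨2, by simp, h.trans (eq_inv_of_mul_eq_one_left (by rw [← pow_succ, hp])).symm⟩

theorem elw_wh (i j k : ℕ) : elw (wh i j k) = elw wx ^ i * elw wy ^ j * elw wu * zt ^ k := by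
  unfold wh
  rw [elw_append, elw_append, elw_append, elw_rep, elw_rep, elw_rep, mul_assoc _ _ (elw wu), mul_assoc _ _ (zt ^ k),
    (u_zt.pow_right k).eq]
  rfl

/-- the elements of `Q` which fix three members of the tetrad -/
theorem form_E {e : Fi23} (he : e ∈ Q) (h : ∀ i, i ≠ 0 → Commute e (ss i)) :
    ∃ i ∈ [0, 1, 2], ∃ j ∈ [0, 1, 2], ∃ k ∈ [0, 1, 2], e = elw wx ^ i * elw wy ^ j * zt ^ k := by
  obtain ⟨e0, h0, h1⟩ := setup.orbit0.2 _ (Q_Kl he (setup.self_Kl 0))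
  have h2 : setup.E0 ≤ Q := (closure_le _).2 (by
    rintro _ (rfl | rfl)
    exacts [setup.x_mem_Q, setup.y_mem_Q])
  have h3 : ∀ i, i ≠ 0 → setup.E0 ≤ centralizer {ss i} := fun i hi => (closure_le _).2 (by
    rintro _ (rfl | rfl)
    · exact mem_cen.2 ((sc 0 i).mul_left (Kl_commute (setup.s_mem_nb hi.symm) setup.kK (setup.self_Kl i)))
    · exact mem_cen.2 ((sc 0 i).mul_left (Kl_commute (setup.s_mem_nb hi.symm) setup.kK' (setup.self_Kl i))))
  obtain ⟨m, hm⟩ := mem_Z (mul_mem (inv_mem (h2 h0)) he) fun i => by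
    by_cases hi : i = 0
    · rw [hi]
      refine commute_of_conj_eq ?_
      rw [show e0⁻¹ * e * ss 0 * (e0⁻¹ * e)⁻¹ = e0⁻¹ * (e * ss 0 * e⁻¹) * e0 by group, ← h1]
      group
    · exact (mem_cen.1 (h3 i hi h0)).inv_left.mul_left (h i hi)
  obtain ⟨i, j, k, h4⟩ := exists_form setup.xz setup.yz setup.xyx h0
  obtain ⟨i', hi, e1⟩ := zp3 setup.x3 i
  obtain ⟨j', hj, e2⟩ := zp3 setup.y3 j
  obtain ⟨k', hk, e3⟩ := zp3 z3' (k + m)
  refine ⟨i', hi, j', hj, k', hk, ?_⟩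
  rw [x_eq, y_eq, ← e1, ← e2, ← e3, zpow_add, ← mul_assoc, ← h4, show zt ^ m = _ from hm, mul_inv_cancel_left]

/-- an element of order three of the coset `Q u` generates with `ζ` a group which contains an element of class 3C -/
theorem form_u {h : Fi23} (hh : h * (elw wu)⁻¹ ∈ Q) (h3 : h ^ 3 = 1) : ∃ m : ℕ, nfix (h * zt ^ m) = 135 := by
  obtain ⟨u0, u1, u2, u3⟩ := u_ss
  have key : ∀ {i j : Fin 4} {d : Fi23}, elw wu * ss i * (elw wu)⁻¹ = ss j → d ∈ Kl DD zt (ss i) →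
      h * d * h⁻¹ ∈ Kl DD zt (ss j) := fun {i j d} e hd => by
    have h1 := Kl_conj_mem tt (mem_NN_of_commute u_zt) hd
    rw [e] at h1
    have h2 := Q_Kl hh h1
    rwa [show h * (elw wu)⁻¹ * (elw wu * d * (elw wu)⁻¹) * (h * (elw wu)⁻¹)⁻¹ = h * d * h⁻¹ by group] at h2
  have k2 := key u1 (setup.self_Kl 1)
  have k3 := key u2 k2
  obtain ⟨a, ha, hf⟩ := setup.f_surj fun i => ⟨![ss 0, ss 1, h * ss 1 * h⁻¹, h * (h * ss 1 * h⁻¹) * h⁻¹] i, by
    fin_cases i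
    exacts [setup.self_Kl 0, setup.self_Kl 1, k2, k3]⟩
  have a1 : a * ss 1 * a⁻¹ = ss 1 := congrArg Subtype.val (congrFun hf 1)
  have a2 : a * ss 2 * a⁻¹ = h * ss 1 * h⁻¹ := congrArg Subtype.val (congrFun hf 2)
  have a3 : a * ss 3 * a⁻¹ = h * (h * ss 1 * h⁻¹) * h⁻¹ := congrArg Subtype.val (congrFun hf 3)
  have step : ∀ {i j : Fin 4}, elw wu * ss i * (elw wu)⁻¹ = ss j → h * (a * ss i * a⁻¹) * h⁻¹ = a * ss j * a⁻¹ →
      Commute (a⁻¹ * h * a * (elw wu)⁻¹) (ss j) := fun {i j} e1 e2 => commute_of_conj_eq (by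
    calc _ = a⁻¹ * (h * (a * ((elw wu)⁻¹ * ss j * elw wu) * a⁻¹) * h⁻¹) * a := by group
      _ = a⁻¹ * (h * (a * ss i * a⁻¹) * h⁻¹) * a := by rw [← e1]; group
      _ = ss j := by rw [e2]; group)
  obtain ⟨i, hi, j, hj, k, hk, e⟩ := form_E (e := a⁻¹ * h * a * (elw wu)⁻¹) (by
    have h1 := mul_mem (mul_mem (inv_mem ha) hh) (Q_cj u_zt ha)
    rwa [show a⁻¹ * (h * (elw wu)⁻¹) * (elw wu * a * (elw wu)⁻¹) = a⁻¹ * h * a * (elw wu)⁻¹ by group] at h1) (by
    intro i hi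
    fin_cases i
    · exact absurd rfl hi
    · refine step u3 ?_
      rw [a3, show h * (h * (h * ss 1 * h⁻¹) * h⁻¹) * h⁻¹ = h ^ 3 * ss 1 * (h ^ 3)⁻¹ by rw [pow_three]; group, h3]
      exact (by group : 1 * ss 1 * 1⁻¹ = ss 1).trans a1.symm
    · exact step u1 (by rw [a1]; exact a2.symm)
    · exact step u2 (by rw [a2]; exact a3.symm))
  have e1 : a⁻¹ * h * a⁻¹⁻¹ = elw (wh i j 0) * zt ^ k := by
    rw [inv_inv, mul_inv_eq_iff_eq_mul.1 e, elw_wh, pow_zero, mul_one, mul_assoc, mul_assoc _ (elw wu),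
      (u_zt.pow_right k).eq]
  have hz : Commute (elw (wh i j 0)) zt := by
    rw [elw_wh]
    exact ((((es.cen _ x_mem).pow_left i).mul_left ((es.cen _ y_mem).pow_left j)).mul_left u_zt).mul_left
      ((Commute.refl zt).pow_left 0)
  have e2 : elw (wh i j 0) ^ 3 = 1 := by
    have h1 : (a⁻¹ * h * a⁻¹⁻¹) ^ 3 = 1 := by rw [_root_.conj_pow, h3, mul_one, mul_inv_cancel]
    rwa [e1, (hz.pow_right k).mul_pow, ← pow_mul, mul_comm k, pow_mul, z3', one_pow, mul_one] at h1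
  have j0 : j = 0 := by
    by_contra hj0
    have h1 := List.all_eq_true.1 (List.all_eq_true.1 nine i hi) j (by simpa [hj0] using hj)
    refine mvl_spec h1 0 (by simp) ?_
    rw [elw_rep, e2, map_one]
    rfl
  have fin : ∀ k0, nfix (elw (wh i 0 k0)) = 135 → ∃ m : ℕ, nfix (h * zt ^ m) = 135 := fun k0 h1 => by
    refine ⟨k0 + 2 * k, ?_⟩
    rw [← h1, ← nfix_conj a⁻¹, show a⁻¹ * (h * zt ^ (k0 + 2 * k)) * a⁻¹⁻¹ =
      a⁻¹ * h * a⁻¹⁻¹ * (a⁻¹ * zt ^ (k0 + 2 * k) * a⁻¹⁻¹) by group, e1,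
      conj_of_comm ((es.cen _ (inv_mem ha)).pow_right _), j0, elw_wh, elw_wh, mul_assoc, ← pow_add,
      show k + (k0 + 2 * k) = 3 * k + k0 by ring, pow_add, pow_mul, z3', one_pow, one_mul, pow_zero zt, mul_one]
  simp only [List.mem_cons, List.not_mem_nil, or_false] at hi
  rcases hi with rfl | rfl | rfl
  exacts [fin 2 (nfix_elw nf0), fin 1 (nfix_elw nf1), fin 1 (nfix_elw nf2)]

theorem rc_conj {w g s s' : Fi23} (hw : w ∈ Q) (h : Rc zt w g) (e : g * s * g⁻¹ = s') (hs : Commute zt s') :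
    g * (w * s * w⁻¹) * g⁻¹ = w * s' * w⁻¹ := by
  have h1 := (comm_zp hs.symm h).eq
  have h2 := (comm_zp (es.cen w hw) h).eq
  unfold Rc at h
  generalize ez : w * g * w⁻¹ * g⁻¹ = z at h1 h2
  have h3 : g * w * g⁻¹ = w * z⁻¹ := by
    rw [eq_mul_inv_iff_mul_eq, ← mul_right_inj (g * w * g⁻¹)⁻¹, inv_mul_cancel_left, ← mul_right_inj w, h2, ← ez]
    group
  calc g * (w * s * w⁻¹) * g⁻¹ = g * w * g⁻¹ * (g * s * g⁻¹) * (g * w * g⁻¹)⁻¹ := by group
    _ = w * (z⁻¹ * (s' * z)) * w⁻¹ := by rw [h3, e]; group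
    _ = _ := by rw [h1]; group

theorem cyc {g w : Fi23} {p q r : ℕ} (hp : p < 31671) (h1 : rho g p = q) (h2 : rho g q = r)
    (h : w * T p * w⁻¹ = T p ∨ w * T p * w⁻¹ = T q ∨ w * T p * w⁻¹ = T r) :
    ∃ i ∈ [0, 1, 2], Commute ((g ^ i)⁻¹ * w) (T p) := by
  have key : ∀ i : ℕ, w * T p * w⁻¹ = T (rho (g ^ i) p) → Commute ((g ^ i)⁻¹ * w) (T p) := fun i e =>
    commute_of_conj_eq (by
      rw [T_act _ hp] at e
      rw [show (g ^ i)⁻¹ * w * T p * ((g ^ i)⁻¹ * w)⁻¹ = (g ^ i)⁻¹ * (w * T p * w⁻¹) * g ^ i by group, e]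
      group)
  rcases h with h | h | h
  · exact ⟨0, by simp, key 0 (by rw [h, pow_zero, map_one]; rfl)⟩
  · exact ⟨1, by simp, key 1 (by rw [h, pow_one, h1])⟩
  · exact ⟨2, by simp, key 2 (by rw [h, pow_two, map_mul, Equiv.Perm.mul_apply, h1, h2])⟩

theorem six {w : Fi23} (hw : w ∈ Q) (ha : Rc zt w (elw wal)) {i : Fin 4} {r : List Lt} {x : Lt} {l : List ℕ}
    (h : Nat.beq (patM wz [(r, x, false), (rp, .a, false), (rq, .a, false), ([], .z, false), ([], .j, false)])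
      (mor l) = true) {j : Fin 4} (hj : elw (cw r x) = ss j) (h1 : j ≠ i) (h2 : 2 ≠ i) (h3 : 3 ≠ i) :
    ∃ q ∈ l, w * ss i * w⁻¹ = T q ∧ ∀ k, k ≠ i → q ≠ sp k := by
  have hd := Q_Kl hw (setup.self_Kl i)
  have hc : Commute (w * ss i * w⁻¹) (elw wal) := (commute_of_conj_eq (rc_conj hw ha (al_ss i) (sX i).2)).symm
  have hzj : el .z ≠ el .j := fun e => absurd (T_inj (pt_lt .z) (pt_lt .j) (by rw [T_pt, T_pt, e])) (by decide)
  have e1 : elw wal = el .z * el .j := uu_eq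
  have hz := commute_of_commute_mul tt hd.1.1 (H837.Base23.isConj_el .z) (H837.Base23.isConj_el .j) hzj (e1 ▸ hc)
  have hj' : Commute (w * ss i * w⁻¹) (el .j) := by
    have h4 := hz.inv_right.mul_right (e1 ▸ hc)
    rwa [inv_mul_cancel_left] at h4
  have hk : ∀ k, k ≠ i → Commute (ss k) (w * ss i * w⁻¹) := fun k hk =>
    Kl_commute (setup.s_mem_nb hk) (setup.self_Kl k) hd
  obtain ⟨q, hq, -, e⟩ := use_patM h (d := w * ss i * w⁻¹) hd.1.1 hd.1.2 (by
    intro c hc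
    simp only [List.mem_cons, List.not_mem_nil, or_false] at hc
    rcases hc with rfl | rfl | rfl | rfl | rfl <;> simp only [Bool.false_eq_true, iff_false, not_not]
    · rw [hj]
      exact hk j h1
    · exact hk 2 h2
    · exact hk 3 h3
    · rw [cw_nil, elw_one]
      exact hz.symm
    · rw [cw_nil, elw_one]
      exact hj'.symm)
  refine ⟨q, hq, e, fun k hk e1 => setup.notMem_Kl hk.symm ?_⟩
  rwa [e, e1, T_sp] at hd

/-- the fixed points of the base group on `Q / ⟨ζ⟩` -/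
theorem line {w : Fi23} (hw : w ∈ Q) (ha : Rc zt w (elw wal)) (hu : Rc zt w (elw wu)) (hb : Rc zt w (elw wbe)) :
    ∃ j ∈ [0, 1, 2], (elw wX ^ j)⁻¹ * w ∈ zpowers zt := by
  have rc : ∀ {a v g : Fi23} (i : ℕ), a ∈ Q → Commute g a → Rc zt v g → Rc zt ((a ^ i)⁻¹ * v) g := fun i h1 h2 h3 =>
    (Setup.Rc_of_comm (h2.symm.pow_left i).inv_left).mul_left (es.cen _ (inv_mem (pow_mem h1 i))) h3
  obtain ⟨i, hi, h0⟩ : ∃ i ∈ [0, 1, 2], Commute ((elw wx ^ i)⁻¹ * w) (T 11589) := by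
    obtain ⟨q, hq, e, hn⟩ := six hw ha (i := 0) p0 (j := 1) rfl (by decide) (by decide) (by decide)
    refine cyc (by norm_num) (ptv (q := 2322) (by simp)) (ptv (q := 1698) (by simp)) ?_
    rw [show T 11589 = ss 0 from T_sp 0, e, ← T_sp 0]
    simp only [List.mem_cons, List.not_mem_nil, or_false] at hq
    rcases hq with rfl | rfl | rfl | rfl | rfl | rfl
    exacts [Or.inr (Or.inr rfl), Or.inr (Or.inl rfl), absurd rfl (hn 2 (by decide)), absurd rfl (hn 3 (by decide)),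
      absurd rfl (hn 1 (by decide)), Or.inl rfl]
  have hw1 := mul_mem (inv_mem (pow_mem x_mem i)) hw
  obtain ⟨j, hj, h1⟩ : ∃ j ∈ [0, 1, 2], Commute ((elw wX ^ j)⁻¹ * ((elw wx ^ i)⁻¹ * w)) (T 8003) := by
    obtain ⟨q, hq, e, hn⟩ := six hw1 (rc i x_mem (comw x_al) ha) (i := 1) p1 (j := 0) rfl (by decide) (by decide)
      (by decide)
    refine cyc (by norm_num) (ptv (q := 707) (by simp)) (ptv (q := 494) (by simp)) ?_
    rw [show T 8003 = ss 1 from T_sp 1, e, ← T_sp 1]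
    simp only [List.mem_cons, List.not_mem_nil, or_false] at hq
    rcases hq with rfl | rfl | rfl | rfl | rfl | rfl
    exacts [Or.inr (Or.inr rfl), Or.inr (Or.inl rfl), absurd rfl (hn 2 (by decide)), absurd rfl (hn 3 (by decide)),
      Or.inl rfl, absurd rfl (hn 0 (by decide))]
  have hw2 := mul_mem (inv_mem (pow_mem X_mem j)) hw1
  have hu2 := rc j X_mem (comw X_u) (rc i x_mem (comw x_u) hu)
  have h2 : Commute ((elw wX ^ j)⁻¹ * ((elw wx ^ i)⁻¹ * w)) (T 11589) :=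
    ((commute_of_fix (by norm_num) (ptv (w := wX) (by simp))).pow_left j).inv_left.mul_left h0
  rw [show T 8003 = ss 1 from T_sp 1] at h1
  rw [show T 11589 = ss 0 from T_sp 0] at h2
  have step : ∀ {k l : Fin 4}, elw wu * ss k * (elw wu)⁻¹ = ss l → Commute ((elw wX ^ j)⁻¹ * ((elw wx ^ i)⁻¹ * w)) (ss k) →
      Commute ((elw wX ^ j)⁻¹ * ((elw wx ^ i)⁻¹ * w)) (ss l) := fun {k l} e h => commute_of_conj_eq (by
    rw [← rc_conj hw2 hu2 e (sX l).2, conj_of_comm h, e])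
  have h3 := step u_ss.2.1 h1
  have hZ := mem_Z hw2 fun k => by
    fin_cases k
    exacts [h2, h1, h3, step u_ss.2.2.1 h3]
  have hx : ¬ Rc zt (elw wx) (elw wbe) := fun h => by
    have e1 : elw wbe * T 6526 * (elw wbe)⁻¹ = T 8003 := by rw [← T_act _ (by norm_num), ptv (q := 8003) (by simp)]
    have e2 := rc_conj x_mem h e1 (by rw [show T 8003 = ss 1 from T_sp 1]; exact (sX 1).2)
    rw [← T_act _ (by norm_num), ← T_act (elw wx) (by norm_num), ptv (w := wx) (p := 6526) (q := 993) (by simp),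
      ptv (w := wx) (p := 8003) (q := 8003) (by simp), ← e1] at e2
    exact absurd (T_inj (by norm_num) (by norm_num) (mul_left_cancel (mul_right_cancel e2))) (by norm_num)
  have hxi : Rc zt (elw wx ^ i) (elw wbe) := by
    have h4 := (hb.mul_left (es.cen _ hw) (Setup.Rc_of_comm (comm_zp be_zt hZ).symm.inv_left)).mul_left
      (es.cen _ (mul_mem hw (inv_mem hw2))) (Setup.Rc_of_comm ((comw X_be).symm.pow_left j).inv_left)
    rwa [show w * ((elw wX ^ j)⁻¹ * ((elw wx ^ i)⁻¹ * w))⁻¹ * (elw wX ^ j)⁻¹ = elw wx ^ i by group] at h4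
  simp only [List.mem_cons, List.not_mem_nil, or_false] at hi
  rcases hi with rfl | rfl | rfl
  · exact ⟨j, hj, by rwa [pow_zero, inv_one, one_mul] at hZ⟩
  · exact absurd (by rwa [pow_one] at hxi) hx
  · have h4 := hxi.mul_left (es.cen _ (pow_mem x_mem 2)) hxi
    rw [← pow_add, show 2 + 2 = 3 + 1 from rfl, pow_succ, setup.Q_cube x_mem, one_mul] at h4
    exact absurd h4 hx

end Cfsg.Agent.SB.SporD.Fi.TD
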