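import Cfsg.Agent.SB.SporD.Fi.TP
import Cfsg.Agent.H832.TriD
import Cfsg.Agent.H830.Con23
import Cfsg.Agent.H830.PrimF
import Cfsg.Agent.Fischer.Y322Iso

/-!
# S5765, the row `Fi23`, the prime 3: `A` lies in a subgroup `PΩ₈⁺(3)` (helper93)
-/

set_option autoImplicit false
set_option maxRecDepth 100000

namespace Cfsg.Agent.SB.SporD.Fi.TD

open Subgroup Cfsg
open Cfsg.Agent.Lib.PermNet Cfsg.Agent.Lib.PermNetOrbit Cfsg.Agent.LThreeFi23 Cfsg.Agent.Fischer.Fi23Hom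
open Cfsg.Agent.H826.M23 Cfsg.Agent.H826.M23.Data Cfsg.Agent.H826.M23.Inst
open Cfsg.Agent.H832.TriD (Asrt)
open Cfsg.Agent.H840.M499 (PO card_PO)
open Cfsg.Agent.SB.F24.Geo (conj_comm conj_of_comm mem_cen)
open Cfsg.Spor (Fi23)

theorem exists_sub {G : Type*} [Group G] [Finite G] {K : Subgroup G} {n : ℕ} (h : 3 ^ n ∣ Nat.card K) :
    ∃ E : Subgroup G, E ≤ K ∧ Nat.card E = 3 ^ n := by
  have := fact3
  obtain ⟨E, hE⟩ := Sylow.exists_subgroup_card_pow_prime 3 h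
  exact ⟨E.map K.subtype, map_subtype_le _, (card_map_of_injective K.subtype_injective).trans hE⟩

theorem exists_L : ∃ L : Subgroup Fi23, P ≤ L ∧ Asrt DD L := by
  have := fact3
  obtain ⟨L, hL⟩ := H832.TriD.main (G := Fi23) (D := DD) ⟨H830.Con23.fgroup.cls.1, tt.conj, H830.Con23.fgroup.cls.2.2⟩
    (H830.PrimF.isPrimitiveUnderConj H830.Con23.fgroup) H830.Con23.isOfTypeM23
  obtain ⟨E, h1, h2⟩ := exists_sub (K := L) (n := 13) (by
    obtain ⟨-, ⟨e1⟩, ⟨_, ⟨e2⟩⟩, -⟩ := hL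
    rw [card_eq_card_quotient_mul_card_subgroup (generalizedFittingSubgroup L), Nat.card_congr e1.toEquiv,
      Nat.card_congr e2.toEquiv, card_PO, Nat.card_perm, Nat.card_fin]
    norm_num [Nat.factorial])
  obtain ⟨g, -, hg⟩ := conj_into le_top (IsPGroup.of_card h2) h2.ge (not_dvd ⊤) le_top pg_P
  refine ⟨L.map (MulAut.conj g⁻¹).toMonoidHom, fun p hp => ⟨_, h1 (hg p hp), ?_⟩,
    hL.map (MulAut.conj g⁻¹) fun x => ⟨fun h => ?_, tt.conj g⁻¹ x⟩⟩
  · show g⁻¹ * (g * p * g⁻¹) * g⁻¹⁻¹ = p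
    group
  · have h3 := tt.conj g _ h
    rwa [MulAut.conj_apply, show g * (g⁻¹ * x * g⁻¹⁻¹) * g⁻¹ = x by group] at h3

theorem orb_mem {K : Subgroup Fi23} {ws : List (List Lt)} (h : ∀ w ∈ ws, elw w ∈ K) {b r q : ℕ}
    (hq : (orbM ws b r).testBit q = true) : ∃ g ∈ K, rho g b = q := by
  obtain ⟨k, ⟨g, hg, rfl⟩, hk⟩ := sat_point_spec (K := K.map rho) (ntws_ok _)
    (fun u hu => by
      obtain ⟨v, hv, rfl⟩ := mem_ntws hu
      exact ⟨elw v, h v hv, rho_elw v⟩) r hq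
  exact ⟨g, hg, hk⟩

theorem Q_le_P : Q ≤ P := Q_le_A.trans A_le_P

theorem orb2_mem {q : ℕ} (hq : O2.testBit q = true) : ∃ g ∈ P, rho g 8003 = q := by
  refine orb_mem (fun w hw => ?_) hq
  simp only [List.mem_cons, List.not_mem_nil, or_false] at hw
  rcases hw with rfl | rfl | rfl | rfl | rfl
  exacts [Q_le_P (cj_mem (comm_letters (by decide)) x_mem), Q_le_P (cj_mem (comm_letters (by decide)) y_mem),
    A_le_P u_mem, A_le_P be_mem, ta_mem]

/-- the transpositions with a large centralizer in `P` -/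
theorem conj_a {s : Fi23} (hs : s ∈ DD) (h : 3 ^ 9 ≤ Nat.card ↥(P ⊓ centralizer {s})) :
    ∃ p ∈ P, p * ss 0 * p⁻¹ = s := by
  have hz : zt ∈ P ⊓ centralizer {s} := by
    by_contra hz
    exact absurd (small inf_le_left hz) (not_lt.2 h)
  obtain ⟨q, hq, rfl⟩ := H837.Base23.exists_T hs
  have h1 : (pattern [(wz, false)]).testBit q = true := by
    rw [testBit_pattern, pat_cons]
    refine ⟨hq, ?_, by intro c hc; exact absurd hc (by simp)⟩
    simp only [Bool.false_eq_true, iff_false, not_not]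
    exact (fix_iff _ hq).2 (mem_cen.1 hz.2).eq
  rw [← Nat.eq_of_beq_eq_true orb, Nat.lor_eq, Nat.testBit_or, Bool.or_eq_true] at h1
  rcases h1 with h1 | h1
  · obtain ⟨g, hg, e⟩ := orb_mem (K := P) (fun w hw => by
      simp only [List.mem_cons, List.not_mem_nil, or_false] at hw
      rcases hw with rfl | rfl | rfl | rfl
      exacts [Q_le_P x_mem, Q_le_P y_mem, A_le_P be_mem, ta_mem]) h1
    exact ⟨g, hg, by rw [← e, T_act _ (by norm_num), show T 11589 = ss 0 from T_sp 0]⟩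
  exfalso
  obtain ⟨g0, hg0, e0⟩ := orb2_mem h1
  have h2 : ∀ r : ↥((Finset.range (2 ^ 15)).filter fun p => O2.testBit p = true), ∃ g ∈ P, rho g q = r := fun r => by
    obtain ⟨g, hg, e⟩ := orb2_mem (Finset.mem_filter.1 r.2).2
    refine ⟨g * g0⁻¹, mul_mem hg (inv_mem hg0), ?_⟩
    rw [← e0, ← Equiv.Perm.mul_apply, ← map_mul, inv_mul_cancel_right, e]
  choose f hf hf' using h2
  have h3 := Nat.card_le_card_of_injective
    (fun x : ↥((Finset.range (2 ^ 15)).filter fun p => O2.testBit p = true) × ↥(P ⊓ centralizer {T q}) =>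
      (⟨f x.1 * x.2, mul_mem (hf x.1) x.2.2.1⟩ : P)) (by
    rintro ⟨r, x⟩ ⟨r', x'⟩ e
    have e1 : f r * x = f r' * x' := congrArg Subtype.val e
    have key : ∀ r (x : ↥(P ⊓ centralizer {T q})), rho (f r * x) q = r := fun r x => by
      rw [map_mul, Equiv.Perm.mul_apply, (fix_iff _ hq).2 (mem_cen.1 x.2.2).eq, hf']
    have e2 : r = r' := Subtype.ext (by rw [← key r x, e1, key])
    subst e2
    rw [Subtype.ext (mul_left_cancel e1 : (x : Fi23) = x')])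
  rw [Nat.card_prod, Nat.card_eq_fintype_card, Fintype.card_coe, Lib.PermNetPat.card_filter_testBit, Nat.eq_of_beq_eq_true orb2,
    card_P] at h3
  omega

theorem perm3 : ∀ σ π : Equiv.Perm (Fin 3), σ * σ = 1 → σ ≠ 1 → σ * π = π * σ → π * π = 1 := by decide

theorem exists_emb : ∃ ι : PO →* Fi23, Function.Injective ι ∧ A ≤ ι.range := by
  have := fact3
  obtain ⟨L, hP, hD, ⟨e1⟩, ⟨_, ⟨e2⟩⟩, hC⟩ := exists_L
  let φ : L →* Equiv.Perm (Fin 3) := e2.toMonoidHom.comp (QuotientGroup.mk' _)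
  have hφ : ∀ g : L, φ g = 1 ↔ g ∈ generalizedFittingSubgroup L := fun g =>
    (map_eq_one_iff e2 e2.injective).trans (QuotientGroup.eq_one_iff g)
  let K : Subgroup Fi23 := (generalizedFittingSubgroup L).map L.subtype
  have hK : ∀ g : L, (g : Fi23) ∈ K ↔ φ g = 1 := fun g => (mem_map_iff_mem L.subtype_injective).trans (hφ g).symm
  have hKn : ∀ g ∈ L, ∀ k ∈ K, g * k * g⁻¹ ∈ K := by
    rintro g hg _ ⟨k, hk, rfl⟩
    exact ⟨_, Normal.conj_mem inferInstance k hk ⟨g, hg⟩, rfl⟩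
  have hKn' : ∀ g ∈ L, ∀ k, g * k * g⁻¹ ∈ K → k ∈ K := fun g hg k hk => by
    have h1 := hKn g⁻¹ (inv_mem hg) _ hk
    rwa [show g⁻¹ * (g * k * g⁻¹) * g⁻¹⁻¹ = k by group] at h1
  refine ⟨L.subtype.comp ((generalizedFittingSubgroup L).subtype.comp e1.symm.toMonoidHom),
    L.subtype_injective.comp ((generalizedFittingSubgroup L).subtype_injective.comp e1.symm.injective),
    le_trans ?_ (show K ≤ _ from ?_)⟩
  swap
  · rintro _ ⟨k, hk, rfl⟩
    exact ⟨e1 ⟨k, hk⟩, by simp⟩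
  obtain ⟨d, hd, hdL, hdK⟩ : ∃ d ∈ DD, d ∈ L ∧ d ∉ K := by
    by_contra h
    push Not at h
    have h1 : L ≤ K := by
      rw [← hD]
      exact (closure_le _).2 fun d hd => h d hd.1 hd.2
    obtain ⟨g, hg⟩ := (e2.surjective.comp (QuotientGroup.mk'_surjective _)) (Equiv.swap 0 1)
    have h2 : φ g = Equiv.swap 0 1 := hg
    rw [(hK g).1 (h1 g.2)] at h2
    exact absurd h2 (by decide)
  obtain ⟨e3⟩ := hC d hd hdL
  obtain ⟨E, h1, h2⟩ := exists_sub (K := L ⊓ centralizer {d}) (n := 9) (by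
    rw [Nat.card_congr e3.toEquiv, Nat.card_prod, Fischer.Y322Iso.card_POmega]
    exact Dvd.dvd.mul_left (by norm_num) _)
  obtain ⟨g, hg, h3⟩ := conj_P hP (h1.trans inf_le_left) (IsPGroup.of_card h2)
  obtain ⟨p, hp, e⟩ := conj_a (tt.conj g d hd) (by
    rw [← h2, ← card_map_of_injective (K := E) (f := (MulAut.conj g).toMonoidHom) (MulAut.conj g).injective]
    refine card_le_of_le ?_
    rintro _ ⟨x, hx, rfl⟩
    exact ⟨h3 x hx, mem_cen.2 (conj_comm (mem_cen.1 (h1 hx).2) g)⟩)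
  have aL : ss 0 ∈ L := by
    have h4 := mul_mem (mul_mem (inv_mem (hP hp)) (mul_mem (mul_mem hg hdL) (inv_mem hg))) (hP hp)
    rwa [← e, show p⁻¹ * (p * ss 0 * p⁻¹) * p = ss 0 by group] at h4
  have aK : ss 0 ∉ K := fun h => hdK (hKn' g hg d (e ▸ hKn p (hP hp) _ h))
  have kill : ∀ t ∈ L, t ∉ K → t * t = 1 → ∀ v ∈ P, Commute v t → v ∈ K := fun t ht htK h2 v hv hc => by
    obtain ⟨k, hk⟩ := pg_P ⟨v, hv⟩
    obtain ⟨m, hm⟩ : Odd (3 ^ k) := Odd.pow (by decide)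
    have h4 : φ ⟨v, hP hv⟩ ^ 3 ^ k = 1 := by
      rw [← map_pow, show (⟨v, hP hv⟩ : L) ^ 3 ^ k = 1 from Subtype.ext (show v ^ 3 ^ k = 1 from congrArg Subtype.val hk),
        map_one]
    have h5 := perm3 (φ ⟨t, ht⟩) (φ ⟨v, hP hv⟩)
      (by rw [← map_mul, show (⟨t, ht⟩ : L) * ⟨t, ht⟩ = 1 from Subtype.ext h2, map_one])
      (fun h => htK ((hK ⟨t, ht⟩).2 h))
      (by rw [← map_mul, ← map_mul, show (⟨t, ht⟩ : L) * ⟨v, hP hv⟩ = ⟨v, hP hv⟩ * ⟨t, ht⟩ from Subtype.ext hc.symm.eq])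
    rw [hm, pow_succ, pow_mul, pow_two, h5, one_pow, one_mul] at h4
    exact (hK ⟨v, hP hv⟩).2 h4
  have ka := kill _ aL aK (setup.ssq 0)
  have eb : elw wbe * ss 0 * (elw wbe)⁻¹ = T 8004 := by
    rw [← T_sp 0, ← T_act _ (sp_lt 0)]
    exact congrArg T (ptv (by simp [sp]))
  have hbL := hP (A_le_P be_mem)
  have kb := kill (T 8004) (eb ▸ mul_mem (mul_mem hbL aL) (inv_mem hbL)) (fun h => aK (hKn' _ hbL _ (eb ▸ h)))
    (T_sq (by norm_num))
  have hQ : Q ≤ K := fun q hq => by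
    have h4 := Q_Kl hq (setup.self_Kl 0)
    obtain ⟨r, hr, e4⟩ := P12_sub (setup.union_subset (Or.inl h4))
    have h5 : ∀ i, i ≠ 0 → r ≠ sp i := fun i hi e5 => setup.notMem_Kl hi.symm (by rwa [← e4, e5, T_sp] at h4)
    have h6 : (orbM [cj [.c, .b] wx, cj [.c, .b] wy] 11589 2).testBit r = true := by
      rw [Nat.eq_of_beq_eq_true orb0, testBit_mor]
      have h7 := h5 1 (by decide)
      have h8 := h5 2 (by decide)
      have h9 := h5 3 (by decide)
      simp only [sp, Matrix.cons_val_one, Matrix.cons_val_zero, Matrix.cons_val] at h7 h8 h9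
      simp only [Finset.mem_coe, List.mem_toFinset, List.mem_cons, List.not_mem_nil, or_false] at hr ⊢
      omega
    obtain ⟨k, hk, e5⟩ := orb_mem (K := K ⊓ Q) (fun w hw => by
      simp only [List.mem_cons, List.not_mem_nil, or_false] at hw
      rcases hw with rfl | rfl
      · have h7 := cj_mem (g := [.c, .b]) (comm_letters (by decide)) x_mem
        exact ⟨kb _ (Q_le_P h7) (commute_of_fix (by norm_num) (ptv (by simp))), h7⟩
      · have h7 := cj_mem (g := [.c, .b]) (comm_letters (by decide)) y_mem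
        exact ⟨kb _ (Q_le_P h7) (commute_of_fix (by norm_num) (ptv (by simp))), h7⟩) h6
    refine (K.mul_mem_cancel_left (inv_mem hk.1)).1 (ka _ (Q_le_P (mul_mem (inv_mem hk.2) hq)) (commute_of_conj_eq ?_))
    rw [show k⁻¹ * q * ss 0 * (k⁻¹ * q)⁻¹ = k⁻¹ * (q * ss 0 * q⁻¹) * k by group, ← e4, ← e5, T_act _ (by norm_num),
      show T 11589 = ss 0 from T_sp 0]
    group
  have k0 := ka _ (A_le_P al_mem) (commute_of_conj_eq (al_ss 0))
  have k1 := hKn _ (hP ta_mem) _ k0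
  refine ext.Pre_le hQ fun x hx => ?_
  rw [ext.e_apply, show x.l = 0 from hx]
  exact mul_mem (mul_mem (mul_mem (pow_mem k0 _) (pow_mem k1 _)) (pow_mem (hKn _ (hP ta_mem) _ k1) _)) (one_mem _)

theorem Good.reg (hO : BoxOpp) {F : Subgroup Fi23} (hF : IsPGroup 3 F) (h : Good F) : Reg F := by
  obtain ⟨ι, h1, h2⟩ := exists_emb
  obtain ⟨g, hg⟩ := h
  obtain ⟨y, hy⟩ := reg_of_opp ι h1 hO.2 hF fun f hf => h2 (hg f hf)
  exact ⟨_, hy⟩

end Cfsg.Agent.SB.SporD.Fi.TD
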