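import Cfsg.Agent.SB.SporD.Fi.W
import Cfsg.Agent.SB.SporD.Fi.Sing
import Cfsg.Agent.SB.SporD.Fi.TData

/-!
# S5765, the row `Fi23`, the prime 3: the Sylow subgroup `P = Q ⋊ (3 ≀ 3)` (helper93)
-/

set_option autoImplicit false
set_option maxRecDepth 100000

namespace Cfsg.Agent.SB.SporD.Fi.TD

open Subgroup Cfsg
open Cfsg.Agent.Lib.PermNet Cfsg.Agent.Lib.PermNetOrbit Cfsg.Agent.LThreeFi23 Cfsg.Agent.Fischer.Fi23Hom
open Cfsg.Agent.H826.M23 Cfsg.Agent.H826.M23.Data Cfsg.Agent.H826.M23.Inst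
open Cfsg.Agent.H837.X1 (eqPt rep)
open Cfsg.Agent.H837.X3 (elw_rep)
open Cfsg.Agent.SB.F24.Geo (zp mem_of_zp conj_comm comm_of_eq_one conj_of_comm mem_cen closure_comm)
open Cfsg.Spor (Fi23)

theorem fact3 : Fact (Nat.Prime 3) := ⟨Nat.prime_three⟩

theorem eqw {w w' : List Lt} (h : eqW w w' = true) : elw w = elw w' := H837.X1.elw_eq_of_eqPt h

theorem comw {w w' : List Lt} (h : eqW (w ++ w') (w' ++ w) = true) : Commute (elw w) (elw w') := by
  have h1 := eqw h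
  rwa [elw_append, elw_append] at h1

theorem poww {w : List Lt} {n : ℕ} (h : eqW (rep w n) [] = true) : elw w ^ n = 1 := by
  have h1 := eqw h
  rwa [elw_rep] at h1

theorem elw_cj (g w : List Lt) : elw (cj g w) = elw g * elw w * (elw g)⁻¹ := by
  unfold cj
  rw [elw_append, elw_append, elw_reverse]

theorem ptv {w : List Lt} {p q : ℕ} (h : (w, p, q) ∈ [(wX, 11589, 11589), (wX, 8003, 707), (wX, 707, 494), (wx, 11589, 2322),
    (wx, 2322, 1698), (wx, 8003, 8003), (wbe, 6526, 8003), (wx, 6526, 993), (cj [.c, .b] wx, 8004, 8004),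
    (cj [.c, .b] wy, 8004, 8004), (wbe, 11589, 8004), (w8, 0, 820)]) : rho (elw w) p = q :=
  H838.Three.ptsChk_spec pts _ h

/-- the extraspecial group -/
noncomputable def Q : Subgroup Fi23 := setup.Q

theorem es : Es zt Q :=
  ⟨z3', z1', setup.zeta_mem_Q, fun _ hx => setup.Q_zeta hx, fun _ hx _ hy => setup.Q_Rc hx hy, fun _ _ h => setup.C_Q_le h⟩

theorem card_Q : Nat.card Q = 3 ^ 9 := setup.card_Q

theorem Q_cj {g q : Fi23} (hg : Commute g zt) (hq : q ∈ Q) : g * q * g⁻¹ ∈ Q := setup.Q_conj (mem_NN_of_commute hg) hq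

theorem x_eq : elw wx = setup.x := elw_append _ _

theorem y_eq : elw wy = setup.y := elw_append _ _

theorem x_mem : elw wx ∈ Q := x_eq ▸ setup.x_mem_Q

theorem y_mem : elw wy ∈ Q := y_eq ▸ setup.y_mem_Q

theorem cj_mem {g w : List Lt} (hg : Commute (elw g) zt) (hw : elw w ∈ Q) : elw (cj g w) ∈ Q := by
  rw [elw_cj]
  exact Q_cj hg hw

theorem al_zt : Commute (elw wal) zt := comw al_z

theorem ta_zt : Commute (elw wta) zt := by
  unfold wta
  rw [elw_append]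
  exact (sX 0).2.symm.mul_left lX.2.symm

theorem be_zt : Commute (elw wbe) zt := comm_letters (by decide)

theorem X_mem : elw wX ∈ Q := by
  unfold wX
  rw [elw_append, elw_reverse]
  exact mul_mem (cj_mem be_zt x_mem) (inv_mem x_mem)

theorem c0_mem : elw wc0 ∈ Q := by
  have h2 : Commute (elw v2) zt := by
    unfold v2
    rw [elw_append, elw_append]
    exact (bX.2.symm.mul_left (sX 2).2.symm).mul_left be_zt
  have h3 : Commute (elw v3) zt := by
    unfold v3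
    rw [elw_append, elw_append]
    exact (bX.2.symm.mul_left (sX 3).2.symm).mul_left be_zt
  rw [← eqw c0_eq, elw_append, elw_append]
  exact mul_mem (mul_mem (cj_mem h2 x_mem) (cj_mem h3 (by rw [elw_reverse]; exact inv_mem x_mem))) es.self

theorem u_ss : elw wu * ss 0 * (elw wu)⁻¹ = ss 0 ∧ elw wu * ss 1 * (elw wu)⁻¹ = ss 2 ∧
    elw wu * ss 2 * (elw wu)⁻¹ = ss 3 ∧ elw wu * ss 3 * (elw wu)⁻¹ = ss 1 := by
  obtain ⟨h0, h1, h2, h3⟩ := im4_spec u_im
  exact ⟨conj_T_word h0, conj_T_word h1, conj_T_word h2, conj_T_word h3⟩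

theorem al_ss (i : Fin 4) : elw wal * ss i * (elw wal)⁻¹ = ss i := by
  obtain ⟨h0, h1, h2, h3⟩ := im4_spec al_im
  apply conj_T_word
  fin_cases i
  exacts [h0, h1, h2, h3]

theorem U_eq : elw wal * (elw wta * elw wal * (elw wta)⁻¹) * (elw wta * (elw wta * elw wal * (elw wta)⁻¹) * (elw wta)⁻¹) =
    (elw wu)⁻¹ := by
  have h := eqw u_eq
  rw [elw_append, elw_rep, elw_append, elw_nil] at h
  rw [← eq_inv_of_mul_eq_one_left h, ← mul_one (_ * _), ← poww ta3, pow_three, pow_three]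
  group

theorem u_zt : Commute (elw wu) zt := by
  have h := ((ta_zt.mul_left al_zt).mul_left ta_zt.inv_left)
  have h1 := (al_zt.mul_left h).mul_left ((ta_zt.mul_left h).mul_left ta_zt.inv_left)
  rw [U_eq] at h1
  exact Commute.inv_left_iff.1 h1

theorem Q_Kl {q d : Fi23} {i : Fin 4} (hq : q ∈ Q) (hd : d ∈ Kl DD zt (ss i)) : q * d * q⁻¹ ∈ Kl DD zt (ss i) :=
  conj_mem_Kl' (setup.Q_le_A hq) hd

theorem ext : Ext Q (elw wal) (elw wta) where
  a3 := poww al3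
  t3 := poww ta3
  com := by
    rw [← elw_cj]
    exact comw al_com
  na := fun _ => Q_cj al_zt
  nt := fun _ => Q_cj ta_zt
  nu := fun h => by
    rw [U_eq, inv_mem_iff] at h
    have h1 := Q_Kl h (setup.self_Kl 1)
    rw [u_ss.2.1] at h1
    exact setup.notMem_Kl (i := 1) (j := 2) (by decide) h1

theorem e_u : ext.e W.u = (elw wu)⁻¹ := ext.e_u.trans U_eq

theorem e_be : ext.e ⟨0, 1, 2, 0⟩ = elw wbe := by
  rw [← eqw be_eq, ext.e_apply]
  show _ ^ 0 * _ ^ 1 * _ ^ 2 * _ ^ 0 = _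
  simp only [elw_append]
  rw [← mul_one (_ ^ 0 * _ ^ 1 * _ ^ 2 * _ ^ 0), ← ext.t3, pow_three, pow_two, pow_zero, pow_zero, pow_one]
  group

/-- the Sylow subgroup -/
noncomputable def P : Subgroup Fi23 := ext.Pre ⊤

/-- the preimage of the base group -/
noncomputable def A : Subgroup Fi23 := ext.Pre W.A

theorem A_le_P : A ≤ P := ext.Pre_le_top _

theorem card_P : Nat.card P = 3 ^ 13 := by
  unfold P
  rw [ext.card_Pre, card_Q, card_top, W.card_W]
  norm_num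

theorem pg_P : IsPGroup 3 P := IsPGroup.of_card card_P

theorem P_le : P ≤ centralizer {zt} :=
  ext.Pre_le (fun _ hq => mem_cen.2 (es.cen _ hq)) fun x _ => ext.e_mem (mem_cen.2 al_zt) (mem_cen.2 ta_zt) x

theorem al_mem : elw wal ∈ A := ext.e_al ▸ ext.e_mem_Pre (show W.al ∈ W.A from rfl)

theorem be_mem : elw wbe ∈ A := e_be ▸ ext.e_mem_Pre (show (⟨0, 1, 2, 0⟩ : W) ∈ W.A from rfl)

theorem u_mem : elw wu ∈ A := inv_mem_iff.1 (e_u ▸ ext.e_mem_Pre (show W.u ∈ W.A from rfl))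

theorem ta_mem : elw wta ∈ P := ext.e_ta ▸ ext.e_mem_Pre (mem_top _)

theorem Q_le_A : Q ≤ A := ext.Q_le _

theorem not_dvd (K : Subgroup Fi23) : ¬ 3 ^ (13 + 1) ∣ Nat.card K := fun h => by
  have h1 := h.trans (card_subgroup_dvd_card K)
  rw [card_G] at h1
  norm_num at h1

theorem conj_P {K F : Subgroup Fi23} (hK : P ≤ K) (hF : F ≤ K) (h : IsPGroup 3 F) : ∃ g ∈ K, ∀ f ∈ F, g * f * g⁻¹ ∈ P :=
  have := fact3
  conj_into hK pg_P card_P.ge (not_dvd K) hF h

/-- `F` is conjugate to a subgroup of `A` -/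
def Good (F : Subgroup Fi23) : Prop := ∃ g : Fi23, ∀ f ∈ F, g * f * g⁻¹ ∈ A

theorem good_B {F : Subgroup Fi23} {g : Fi23} (h : ∀ f ∈ F, ∃ i j : Fin 3, ext.Rel (g * f * g⁻¹) ⟨i, i, i, j⟩) : Good F := by
  refine ⟨elw wg * g, fun f hf => ?_⟩
  obtain ⟨i, j, h1⟩ := h f hf
  have h2 : ∀ i j : Fin 3, (⟨i, i, i, j⟩ : W) = W.u ^ i.val * W.ta ^ j.val := by decide
  let K := A.comap (MulAut.conj (elw wg)).toMonoidHom
  have h3 : elw wu ∈ K := by
    show elw wg * elw wu * (elw wg)⁻¹ ∈ A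
    rw [conj_of_comm (comw g_u)]
    exact u_mem
  have h4 : elw wta ∈ K := by
    show elw wg * elw wta * (elw wg)⁻¹ ∈ A
    have h5 := eqw g_ta
    rw [elw_append, elw_append, elw_append] at h5
    rw [h5, mul_inv_cancel_right]
    exact mul_mem be_mem u_mem
  have h5 : ext.e ⟨i, i, i, j⟩ ∈ K := by
    rw [h2, map_mul, map_pow, map_pow, e_u, ext.e_ta]
    exact mul_mem (pow_mem (inv_mem h3) _) (pow_mem h4 _)
  have h6 : g * f * g⁻¹ * (ext.e ⟨i, i, i, j⟩)⁻¹ ∈ K := Q_le_A (Q_cj (comw g_z) h1)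
  have h7 : elw wg * (g * f * g⁻¹) * (elw wg)⁻¹ ∈ A := (K.mul_mem_cancel_right (inv_mem h5)).1 h6
  rwa [show elw wg * g * f * (elw wg * g)⁻¹ = elw wg * (g * f * g⁻¹) * (elw wg)⁻¹ by group]

theorem card_ab {D : Subgroup Fi23} (hD : D ≤ Q) (h : ∀ x ∈ D, ∀ y ∈ D, x * y = y * x) : Nat.card D ≤ 243 := by
  have h1 := es.card_ab hD h
  rw [card_Q] at h1
  exact Nat.mul_self_le_mul_self_iff.1 (h1.trans (by norm_num))

/-- the subgroups of `P` which do not contain the centre are small -/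
theorem small {H : Subgroup Fi23} (hH : H ≤ P) (hz : zt ∉ H) : Nat.card H < 3 ^ 9 := by
  have h1 : ∀ x ∈ H ⊓ Q, ∀ y ∈ H ⊓ Q, Commute x y := fun x hx y hy => comm_of_eq_one (by
    by_contra h
    exact hz (mem_of_zp es.cube (es.com x hx.2 y hy.2) h
      (mul_mem (mul_mem (mul_mem hx.1 hy.1) (inv_mem hx.1)) (inv_mem hy.1))))
  have h2 := card_ab (D := closure ((H ⊓ Q : Subgroup Fi23) ∪ {zt})) ((closure_le _).2 (by
    rintro x (hx | rfl)
    exacts [hx.2, es.self])) fun x hx y hy => closure_comm (by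
      rintro a (ha | rfl) b (hb | rfl)
      exacts [h1 a ha b hb, es.cen a ha.2, (es.cen b hb.2).symm, Commute.refl _]) hx hy
  have h3 : H ⊓ Q ≤ closure ((H ⊓ Q : Subgroup Fi23) ∪ {zt}) := fun x hx => Subgroup.subset_closure (Or.inl hx)
  obtain ⟨k, hk⟩ := card_dvd_of_le h3
  have h4 : k ≠ 1 := fun e => hz (by
    have h5 := eq_of_le_of_card_ge h3 (by rw [hk, e, mul_one])
    have h6 : zt ∈ H ⊓ Q := by
      rw [h5]
      exact Subgroup.subset_closure (Or.inr rfl)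
    exact h6.1)
  have h5 : k ≠ 0 := fun e => Nat.card_pos.ne' (by rw [hk, e, mul_zero])
  have h6 : Nat.card ↥(H ⊓ Q) * 2 ≤ 243 := (Nat.mul_le_mul_left _ (by omega)).trans (hk ▸ h2)
  have h7 := card_le_card_group (ext.im H)
  rw [W.card_W] at h7
  rw [ext.card_eq hH]
  exact lt_of_le_of_lt (Nat.mul_le_mul (show _ ≤ 121 by omega) h7) (by norm_num)

/-- the elements of `Q` which fix the tetrad -/
theorem mem_Z {q : Fi23} (hq : q ∈ Q) (h : ∀ i, Commute q (ss i)) : q ∈ zpowers zt := by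
  have h1 : zpowers zt = setup.C7 := eq_of_le_of_card_ge
    (zpowers_le.2 (setup.mem_C7.2 ⟨fun i => (sX i).2, bX.2, lX.2, kX.2⟩)) (setup.card_zp ▸ setup.card_C7)
  rw [h1]
  refine (setup.B_cases (setup.Q_le_A hq) h).resolve_right fun h2 => ?_
  rw [← h1] at h2
  have h3 : setup.t ∈ Q := (Q.mul_mem_cancel_right hq).1 (zpowers_le.2 es.self h2)
  have h4 : ∀ {a b : Fi23}, a * a = 1 → b * b = 1 → Commute a b → a * b * (a * b) = 1 := fun {a b} ha hb hc => by
    rw [mul_assoc, ← mul_assoc b, ← hc.eq, mul_assoc, hb, mul_one, ha]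
  have h5 : setup.t = 1 := Setup.eq_one_of_sq setup.isPGroup_Q h3
    (h4 (h4 (h4 (setup.ssq 0) (setup.ssq 1) (sc 0 1)) (setup.ssq 2) ((sc 0 2).mul_left (sc 1 2))) (setup.ssq 3)
      (((sc 0 3).mul_left (sc 1 3)).mul_left (sc 2 3)))
  have h6 := setup.t_conj_k
  rw [h5, one_mul, inv_one, mul_one] at h6
  exact knc (commute_of_conj_eq (by rwa [setup.sinv 0]))

end Cfsg.Agent.SB.SporD.Fi.TD
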