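import Cfsg.Agent.SB.SporD.Fi.TC
import Cfsg.Agent.SB.SporD.Fi.TL
import Cfsg.Agent.SB.Spor.Dens

/-!
# S5765, the row `Fi23`, the prime 3 (helper93)

`boxThree23_of : BoxOpp → BoxThree23`.
-/

set_option autoImplicit false
set_option maxRecDepth 100000

namespace Cfsg.Agent.SB.SporD.Fi.TD

open Subgroup Cfsg
open Cfsg.Agent.Lib.PermNet Cfsg.Agent.Lib.PermNetOrbit Cfsg.Agent.LThreeFi23 Cfsg.Agent.Fischer.Fi23Hom
open Cfsg.Agent.H826.M23 Cfsg.Agent.H826.M23.Data Cfsg.Agent.H826.M23.Inst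
open Cfsg.Agent.SB.F24.Geo (zp mem_of_zp conj_comm comm_of_eq_one conj_of_comm mem_cen closure_comm conj_closure le_norm
  solv_mono)
open Cfsg.Spor (Fi23)

theorem ncomm : ¬ IsMulCommutative Fi23 := fun h => knc (h.is_comm.comm _ _)

theorem as23 : AS (⊤ : Subgroup Fi23) :=
  have := nsimple
  Mon.as_top ncomm

/-- two collinear points span a standard line -/
theorem std_line {w s : Fi23} (hw : w ∈ Q) (hn : w ∉ zpowers zt) (e : s * zt * s⁻¹ = w) (hz : s⁻¹ * zt * s ∈ Q) :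
    ∃ g, Commute g zt ∧ ∀ d, Commute zt d → (Commute (g * w * g⁻¹) d ↔ Commute (elw wX) d) := by
  have H := es.conj s
  rw [e] at H
  have hz' : zt ∈ Q.map (MulAut.conj s).toMonoidHom := ⟨_, hz, by show s * (s⁻¹ * zt * s) * s⁻¹ = zt; group⟩
  have hc : Nat.card (Q.map (MulAut.conj s).toMonoidHom) = 3 ^ 9 :=
    (card_map_of_injective (MulAut.conj s).injective).trans card_Q
  have hp : IsPGroup 3 (Q.map (MulAut.conj s).toMonoidHom) := IsPGroup.of_card hc
  generalize Q.map (MulAut.conj s).toMonoidHom = R at H hz' hc hp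
  have h1 := H.card_cent (A := R) fun a ha => H.com a ha zt hz'
  obtain ⟨g, hg, hD⟩ := conj_P P_le (F := R ⊓ centralizer {zt}) inf_le_right (hp.to_le inf_le_left)
  have hg := mem_cen.1 hg
  have hw' := Q_cj hg hw
  have hn' : g * w * g⁻¹ ∉ zpowers zt := fun h => hn (by
    have h2 := conj_of_comm (comm_zp hg.inv_left h)
    rwa [← h2, show g⁻¹ * (g * w * g⁻¹) * g⁻¹⁻¹ = w by group] at h)
  have H' := H.conj g
  have hle : (R ⊓ centralizer {zt}).map (MulAut.conj g).toMonoidHom ≤ R.map (MulAut.conj g).toMonoidHom :=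
    map_mono inf_le_left
  have hDP : (R ⊓ centralizer {zt}).map (MulAut.conj g).toMonoidHom ≤ P := by
    rintro _ ⟨x, hx, rfl⟩
    exact hD x hx
  have h2 : 3 ^ 8 ≤ Nat.card ((R ⊓ centralizer {zt}).map (MulAut.conj g).toMonoidHom) := by
    rw [card_map_of_injective (MulAut.conj g).injective]
    omega
  generalize (R ⊓ centralizer {zt}).map (MulAut.conj g).toMonoidHom = D at hle hDP h2
  refine ⟨g, hg, ?_⟩
  generalize g * w * g⁻¹ = v at hw' hn' H'
  have h3 := card_ab (D := D ⊓ Q) inf_le_right fun x hx y hy => comm_of_eq_one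
    (inf_zp H'.cube hn' (es.com x hx.2 y hy.2) (H'.com x (hle hx.1) y (hle hy.1)))
  have key : ∀ {a : Fi23} {x : W}, x ∈ W.A → ext.Rel a x → Rc zt v a := fun {a x} hx ha => by
    obtain ⟨d, hd, h4⟩ := ext.abel hDP (fun a ha b hb => zpowers_le.2 hw' (H'.com a (hle ha) b (hle hb))) (by omega) hx
    have h5 := ha.mul h4.inv
    rw [mul_inv_cancel, ext.rel_one] at h5
    have h6 := Rc.mul_left (es.cen _ h5) (es.com _ h5 _ hw') (Setup.Rc_of_comm (H'.cen d (hle hd)))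
    rw [inv_mul_cancel_right] at h6
    exact h6.symm
  obtain ⟨x, hx, hx'⟩ := u_mem
  obtain ⟨j, hj, h4⟩ := line hw' (key rfl rel_al) (key hx hx') (key rfl rel_be)
  intro d hd
  have h5 := (comm_zp hd.symm h4).symm
  have h6 : Commute v d ↔ Commute (elw wX ^ j) d := ⟨fun h => by
    have h7 := h.mul_left h5.inv_left
    rwa [show v * ((elw wX ^ j)⁻¹ * v)⁻¹ = elw wX ^ j by group] at h7, fun h => by
    have h7 := h.mul_left h5
    rwa [mul_inv_cancel_left] at h7⟩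
  rw [h6]
  simp only [List.mem_cons, List.not_mem_nil, or_false] at hj
  rcases hj with rfl | rfl | rfl
  · exact absurd (by rwa [pow_zero, inv_one, one_mul] at h4) hn'
  · rw [pow_one]
  · refine ⟨fun h => ?_, fun h => h.pow_left 2⟩
    have h7 := h.pow_left 2
    rwa [← pow_mul, show 2 * 2 = 3 + 1 from rfl, pow_succ, setup.Q_cube X_mem, one_mul] at h7

/-- the transpositions which commute with the standard line -/
def E0 : Set Fi23 := {d | d ∈ DD ∧ Commute zt d ∧ Commute (elw wX) d}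

theorem T_mem_E0 {p : ℕ} (hp : p < 31671) : T p ∈ E0 ↔ (pattern [(wz, false), (wX, false)]).testBit p = true := by
  rw [testBit_pattern, pat_cons, pat_cons]
  simp only [Bool.false_eq_true, iff_false, not_not, fix_iff _ hp]
  exact ⟨fun h => ⟨hp, h.2.1, h.2.2, fun c hc => absurd hc (by simp)⟩,
    fun h => ⟨H837.Base23.isConj_T hp, h.2.1, h.2.2.1⟩⟩

theorem pres {w : List Lt} (hw : w ∈ [w8, w3]) (d : Fi23) : d ∈ E0 ↔ elw w * d * (elw w)⁻¹ ∈ E0 := by
  have h1 : ntw w ∈ ntws [w8, w3] := by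
    simp only [List.mem_cons, List.not_mem_nil, or_false] at hw
    rcases hw with rfl | rfl
    exacts [List.mem_cons_self, List.mem_cons_of_mem _ List.mem_cons_self]
  have key : ∀ p < 31671, T p ∈ E0 ↔ elw w * T p * (elw w)⁻¹ ∈ E0 := fun p hp => by
    rw [← T_act _ hp, T_mem_E0 hp, T_mem_E0 (act_lt _ hp), rho_elw, closedB_spec (ntws_ok _) plane _ h1]
  refine ⟨fun h => ?_, fun h => ?_⟩
  · obtain ⟨p, hp, rfl⟩ := H837.Base23.exists_T h.1
    exact (key p hp).1 h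
  · have h2 := tt.conj (elw w)⁻¹ _ h.1
    rw [show (elw w)⁻¹ * (elw w * d * (elw w)⁻¹) * (elw w)⁻¹⁻¹ = d by group] at h2
    obtain ⟨p, hp, rfl⟩ := H837.Base23.exists_T h2
    exact (key p hp).2 h

theorem not_solv {S : Subgroup Fi23} (hS : Group.IsSolvable S) (hm : MaxInv ⊤ S) {E : Set Fi23} {g : Fi23}
    (hE : ∀ d, d ∈ E ↔ g * d * g⁻¹ ∈ E0) (h : S ≤ normalizer E) : False := by
  rcases hm (normalizer E) (inf_le_left.trans h) le_top
    (fun s hs y hy => mul_mem (mul_mem (h hs) hy) (inv_mem (h hs))) with h1 | h1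
  · have h2 : g⁻¹ * elw v1 * g ∈ normalizer E := h1 ▸ mem_top _
    have h3 := (mem_set_normalizer_iff.1 h2 (g⁻¹ * T 11589 * g)).1 ((hE _).2 (by
      rw [show g * (g⁻¹ * T 11589 * g) * g⁻¹ = T 11589 by group]
      exact ⟨H837.Base23.isConj_T (by norm_num), (T_sp 0 ▸ (sX 0).2 :), commute_of_fix (by norm_num) (ptv (by simp))⟩))
    rw [hE, show g * (g⁻¹ * elw v1 * g * (g⁻¹ * T 11589 * g) * (g⁻¹ * elw v1 * g)⁻¹) * g⁻¹ =
      elw v1 * T 11589 * (elw v1)⁻¹ by group, ← T_act _ (by norm_num), (im4_spec im_1).1] at h3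
    have h4 := (fix_iff _ (by norm_num)).2 h3.2.2.eq
    rw [ptv (q := 707) (by simp)] at h4
    omega
  · have key : ∀ w ∈ [w8, w3], g⁻¹ * elw w * g⁻¹⁻¹ ∈ S := fun w hw => h1 (mem_set_normalizer_iff.2 fun d => by
      rw [hE, hE, pres hw, show g * (g⁻¹ * elw w * g⁻¹⁻¹ * d * (g⁻¹ * elw w * g⁻¹⁻¹)⁻¹) * g⁻¹ =
        elw w * (g * d * g⁻¹) * (elw w)⁻¹ by group])
    have h2 := Spor.eq_one_of_coprime hS (key w8 (by simp)) (key w3 (by simp)) (a := 8) (b := 3) (c := 13)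
      (by rw [_root_.conj_pow, poww o8, mul_one, mul_inv_cancel]) (by rw [_root_.conj_pow, poww o3, mul_one, mul_inv_cancel])
      (by rw [conj_mul, ← elw_append, _root_.conj_pow, poww o13, mul_one, mul_inv_cancel]) rfl rfl rfl
    have h3 := ptv (w := w8) (p := 0) (q := 820) (by simp)
    rw [conj_eq_one_iff.1 h2, map_one] at h3
    exact absurd h3 (by decide)

theorem good_of_le {F : Subgroup Fi23} (h : F ≤ A) : Good F := ⟨1, fun f hf => by
  rw [one_mul, inv_one, mul_one]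
  exact h hf⟩

theorem main {S : Subgroup Fi23} (hS : Group.IsSolvable S) (hm : MaxInv ⊤ S) (hF : IsPGroup 3 (fit S)) (hP : fit S ≤ P) :
    Good (fit S) := by
  by_cases h0 : fit S = ⊥
  · exact good_of_le (h0 ▸ bot_le)
  have hT : ∀ {Y : Subgroup Fi23}, Y ≤ S → ¬ ⊤ ≤ Y := fun h hle => as23.not_le hS (hle.trans h)
  have hc : ∀ f ∈ fit S, zt * f = f * zt := fun f hf => (mem_cen.1 (P_le (hP hf))).symm.eq
  have zS : zt ∈ S := hm.mem_of_centralizes as23 h0 (hT (map_subtype_le _)) Mon.fit_conj (mem_top _) hc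
  have zF : zt ∈ fit S := Mon.mem_fit_of_cent hS zS hc
  let I : Set Fi23 := {w | ∃ s ∈ S, s * zt * s⁻¹ = w}
  have hzI : zt ∈ I := ⟨1, one_mem _, by group⟩
  have hI : ∀ s ∈ S, ∀ w ∈ I, s * w * s⁻¹ ∈ I := by
    rintro s hs _ ⟨t, ht, rfl⟩
    exact ⟨s * t, mul_mem hs ht, by group⟩
  have hIF : ∀ w ∈ I, w ∈ fit S := by
    rintro _ ⟨s, hs, rfl⟩
    exact Mon.fit_conj s hs _ zF
  have hIc : ∀ w ∈ I, ∀ f ∈ fit S, Commute w f := by
    rintro _ ⟨s, hs, rfl⟩ f hf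
    have h1 := conj_comm (hc _ (Mon.fit_conj s⁻¹ (inv_mem hs) f hf)) s
    rwa [show s * (s⁻¹ * f * s⁻¹⁻¹) * s⁻¹ = f by group] at h1
  by_cases h1 : ∃ w ∈ I, w ∉ Q
  · obtain ⟨w, hw, hQ⟩ := h1
    have h3 : w ^ 3 = 1 := by
      obtain ⟨s, -, rfl⟩ := hw
      exact (es.conj s).cube
    have key : ∀ h : Fi23, h ^ 3 = 1 → (∀ f ∈ fit S, Commute h f) → ext.Rel h W.u → Good (fit S) := fun h h3 hh hr => by
      have h4 := hr.inv
      unfold Ext.Rel at h4
      rw [map_inv, e_u, inv_inv] at h4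
      obtain ⟨m, hm⟩ := form_u h4 (by rw [inv_pow, h3, inv_one])
      refine good_C hF ?_ hm fun f hf => ((hh f hf).inv_left.mul_left (Commute.pow_left (hc f hf) m)).symm
      rw [((hh _ zF).inv_left.pow_right m).mul_pow, inv_pow, h3, ← pow_mul, mul_comm m, pow_mul, z3', one_pow, inv_one,
        mul_one]
    rcases ext.cent hP (hIF w hw) hQ h3 (hIc w hw) with h | h | h | ⟨g, h⟩
    · exact good_of_le h
    · exact key w h3 (hIc w hw) h
    · exact key w⁻¹ (by rw [inv_pow, h3, inv_one]) (fun f hf => (hIc w hw f hf).inv_left) h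
    · exact good_B h
  push Not at h1
  have hN : ∀ {Y : Subgroup Fi23}, Y ≠ ⊥ → Y ≤ fit S → (∀ s ∈ S, ∀ y ∈ Y, s * y * s⁻¹ ∈ Y) →
      normalizer (Y : Set Fi23) ≤ S := fun hY h2 h3 t ht =>
    hm.mem_of_normalizes as23 hY (hT (h2.trans (map_subtype_le _))) h3 (mem_top t) fun x hx =>
      (mem_normalizer_iff.1 ht x).1 hx
  by_cases h2 : ∀ w ∈ I, w ∈ zpowers zt
  · have h3 : ∀ s ∈ S, ∀ y ∈ zpowers zt, s * y * s⁻¹ ∈ zpowers zt := by
      rintro s hs _ ⟨k, rfl⟩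
      show s * zt ^ k * s⁻¹ ∈ _
      rw [← conj_zpow]
      exact zpow_mem (h2 _ ⟨s, hs, rfl⟩) k
    have h4 : NN zt ≤ S := hN (zpowers_ne_bot.2 z1') (zpowers_le.2 zF) h3
    exact good_of_le ((setup.le_Q (fun f hf => mem_NN_of_commute (hc f hf).symm)
      (fun h hh => Mon.fit_conj h (h4 hh)) hF).trans Q_le_A)
  exfalso
  push Not at h2
  obtain ⟨w, hw, hn⟩ := h2
  by_cases h3 : ∀ r ∈ I, ∃ z ∈ zpowers w, r * z ∈ zpowers zt
  · obtain ⟨s, hs, e⟩ := id hw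
    obtain ⟨g, hg, h4⟩ := std_line (h1 w hw) hn e (h1 _ ⟨s⁻¹, inv_mem hs, by rw [inv_inv]⟩)
    have h5 : ∀ s ∈ S, ∀ d, d ∈ DD ∧ (∀ i ∈ I, Commute i d) → s * d * s⁻¹ ∈ DD ∧ ∀ i ∈ I, Commute i (s * d * s⁻¹) :=
      fun s hs d hd => ⟨tt.conj s d hd.1, fun i hi => by
        have h6 := conj_comm (hd.2 _ (hI s⁻¹ (inv_mem hs) i hi)) s
        rwa [show s * (s⁻¹ * i * s⁻¹⁻¹) * s⁻¹ = i by group] at h6⟩
    refine not_solv hS hm (E := {d | d ∈ DD ∧ ∀ i ∈ I, Commute i d}) (g := g) (fun d => ⟨fun hd => ?_, fun hd => ?_⟩)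
      fun s hs => mem_set_normalizer_iff.2 fun d => ⟨h5 s hs d, fun hd => ?_⟩
    · have h6 := conj_comm (hd.2 _ hzI) g
      rw [conj_of_comm hg] at h6
      exact ⟨tt.conj g d hd.1, h6, (h4 _ h6).1 (conj_comm (hd.2 _ hw) g)⟩
    · have h6 := tt.conj g⁻¹ _ hd.1
      rw [show g⁻¹ * (g * d * g⁻¹) * g⁻¹⁻¹ = d by group] at h6
      have h7 : Commute zt d := (commute_conj_iff g _ _).1 (by rw [conj_of_comm hg]; exact hd.2.1)
      have h8 : Commute w d := (commute_conj_iff g _ _).1 ((h4 _ hd.2.1).2 hd.2.2)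
      refine ⟨h6, fun i hi => ?_⟩
      obtain ⟨z, hz, h9⟩ := h3 i hi
      have h10 := (comm_zp h7.symm h9).mul_right (comm_zp h8.symm hz).inv_right
      rw [mul_inv_cancel_right] at h10
      exact h10.symm
    · have h6 := h5 s⁻¹ (inv_mem hs) _ hd
      rwa [show s⁻¹ * (s * d * s⁻¹) * s⁻¹⁻¹ = d by group] at h6
  · push Not at h3
    obtain ⟨r, hr, h3⟩ := h3
    have h4 : ∀ a, ∃ s, a ∈ I → s ∈ S ∧ s * zt * s⁻¹ = a := fun a => by
      by_cases ha : a ∈ I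
      · obtain ⟨s, hs⟩ := ha
        exact ⟨s, fun _ => hs⟩
      · exact ⟨1, fun h => absurd h ha⟩
    choose σ hσ using h4
    refine sing3 (Q := fun a => Q.map (MulAut.conj (σ a)).toMonoidHom) (fun a ha => ?_) (fun a ha b hb => ?_) hzI hw hr hn h3
      (solv_mono (hN (fun e => z1' (mem_bot.1 (e ▸ Subgroup.subset_closure hzI))) ((closure_le _).2 hIF)
        fun s hs y hy => conj_closure (fun a ha => Subgroup.subset_closure (hI s hs a ha)) hy) hS)
    · have h5 := es.conj (σ a)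
      rwa [(hσ a ha).2] at h5
    · exact ⟨_, h1 _ (hI _ (inv_mem (hσ a ha).1) b hb), by show σ a * ((σ a)⁻¹ * b * (σ a)⁻¹⁻¹) * (σ a)⁻¹ = b; group⟩

end TD

open Subgroup

/-- **the prime 3 in `Fi23`** -/
theorem boxThree23_of (hO : BoxOpp) : BoxThree23 := by
  intro S hS hm hF
  obtain ⟨g, -, hg⟩ := TD.conj_P le_top le_top hF
  have hi := (MulAut.conj g).injective
  have hP : fit (S.map (MulAut.conj g).toMonoidHom) ≤ TD.P := by
    rintro _ ⟨⟨_, w, hw, rfl⟩, hv, rfl⟩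
    exact hg w ⟨⟨w, hw⟩, (mem_fitting_map _ hi ⟨w, hw⟩).1 hv, rfl⟩
  have hF' := TD.pg_P.to_le hP
  obtain ⟨x, hx⟩ := (TD.main (Group.isSolvable_of_surjective (f := (MulAut.conj g).toMonoidHom.subgroupMap S)
    (MonoidHom.subgroupMap_surjective _ S)) (hm.conj inferInstance g) hF' hP).reg hO hF'
  refine FitReg.of_map (MulAut.conj g).toMonoidHom hi ?_
  rw [map_conj_normal' inferInstance]
  exact fitReg_iff.2 ⟨x, mem_top x, fun v hv h => hx v hv (F24.Geo.le_norm Mon.fit_conj h)⟩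

end Cfsg.Agent.SB.SporD.Fi
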