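import Mathlib

/-!
# S5765, the row `Fi23`: the wreath product `3 ≀ 3` over a normal subgroup (helper93)
-/

set_option autoImplicit false

namespace Cfsg.Agent.SB.SporD.Fi

open Subgroup

/-- the elements of `3 ≀ 3` -/
structure W where
  a : Fin 3
  b : Fin 3
  c : Fin 3
  l : Fin 3
  deriving DecidableEq, Fintype

namespace W

/-- the cyclic shift -/
def rot (y : W) : W := ⟨y.c, y.a, y.b, y.l⟩

/-- the shift by `l` -/
def sh (l : Fin 3) (y : W) : W := if l = 0 then y else if l = 1 then rot y else rot (rot y)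

instance instMulW : Mul W := ⟨fun x y => ⟨x.a + (sh x.l y).a, x.b + (sh x.l y).b, x.c + (sh x.l y).c, x.l + y.l⟩⟩

instance instOneW : One W := ⟨⟨0, 0, 0, 0⟩⟩

instance instInvW : Inv W := ⟨fun x => sh (-x.l) ⟨-x.a, -x.b, -x.c, -x.l⟩⟩

theorem mul_def (x y : W) : x * y = ⟨x.a + (sh x.l y).a, x.b + (sh x.l y).b, x.c + (sh x.l y).c, x.l + y.l⟩ := rfl

theorem three : ∀ l : Fin 3, l = 0 ∨ l = 1 ∨ l = 2 := by decide

theorem assoc (x y z : W) : x * y * z = x * (y * z) := by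
  obtain ⟨a, b, c, l⟩ := x
  obtain ⟨a', b', c', l'⟩ := y
  have h1 : (1 : Fin 3) + 1 = 2 := rfl
  have h2 : (1 : Fin 3) + 2 = 0 := rfl
  have h3 : (2 : Fin 3) + 1 = 0 := rfl
  have h4 : (2 : Fin 3) + 2 = 1 := rfl
  rcases three l with rfl | rfl | rfl <;> rcases three l' with rfl | rfl | rfl <;>
    simp [mul_def, sh, rot, add_assoc, ← add_assoc _ _ z.l, h1, h2, h3, h4]

instance instGroupW : Group W := Group.ofLeftAxioms assoc (by decide) (by decide)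

/-- the generator of the centre -/
def u : W := ⟨1, 1, 1, 0⟩

/-- the first factor -/
def al : W := ⟨1, 0, 0, 0⟩

/-- the top group -/
def ta : W := ⟨0, 0, 0, 1⟩

/-- the base group -/
def A : Subgroup W where
  carrier := {x | x.l = 0}
  one_mem' := rfl
  mul_mem' := fun {x y} hx hy => by
    show x.l + y.l = 0
    rw [show x.l = 0 from hx, show y.l = 0 from hy]
    rfl
  inv_mem' := fun {x} hx => by
    have h : ∀ x : W, x.l = 0 → x⁻¹.l = 0 := by decide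
    exact h x hx

theorem card_W : Nat.card W = 81 := by
  rw [Nat.card_eq_fintype_card]
  rfl

theorem card_A : Nat.card A = 27 := by
  have h : Nat.card A = Fintype.card {x : W // x.l = 0} := Nat.card_eq_fintype_card (α := {x : W // x.l = 0})
  rw [h]
  rfl

theorem ker_fact : ∀ x : W, x ≠ 1 → ∃ g ∈ [al, ta], ∃ y ∈ [x, x * g * x⁻¹ * g⁻¹,
    (x * g * x⁻¹ * g⁻¹) * ta * (x * g * x⁻¹ * g⁻¹)⁻¹ * ta⁻¹], y = u ∨ y⁻¹ = u := by decide +kernel

theorem cent_fact : ∀ x : W, x ≠ 1 → x * x * x = 1 → (∀ y : W, x * y = y * x → y.l = 0) ∨ x = u ∨ x⁻¹ = u ∨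
    ∃ p q : Fin 3, ∀ y : W, x * y = y * x → ∃ i j : Fin 3,
      (⟨p, q, 0, 0⟩ : W) * y * (⟨p, q, 0, 0⟩ : W)⁻¹ = ⟨i, i, i, j⟩ := by decide +kernel

theorem card_fact : ∀ x : W, x.l ≠ 0 → (Finset.univ.filter fun y : W => x * y = y * x).card ≤ 9 := by decide +kernel

/-- a normal subgroup which is not trivial contains the centre -/
theorem u_mem {K : Subgroup W} (hK : ∀ g : W, ∀ x ∈ K, g * x * g⁻¹ ∈ K) {x : W} (hx : x ∈ K) (h1 : x ≠ 1) : u ∈ K := by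
  have key : ∀ y ∈ K, ∀ g : W, y * g * y⁻¹ * g⁻¹ ∈ K := fun y hy g => by
    have h := mul_mem hy (hK g _ (inv_mem hy))
    rwa [← mul_assoc, ← mul_assoc] at h
  obtain ⟨g, -, y, hy, h⟩ := ker_fact x h1
  have hyK : y ∈ K := by
    simp only [List.mem_cons, List.not_mem_nil, or_false] at hy
    rcases hy with rfl | rfl | rfl
    · exact hx
    · exact key _ hx _
    · exact key _ (key _ hx _) _
  rcases h with h | h
  · exact h ▸ hyK
  · exact h ▸ inv_mem hyK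

/-- the only large abelian subgroup -/
theorem A_le {H : Subgroup W} (hc : ∀ x ∈ H, ∀ y ∈ H, x * y = y * x) (h : 9 < Nat.card H) : A ≤ H := by
  classical
  have h1 : H ≤ A := fun x hx => by
    by_contra h2
    have h3 := card_fact x h2
    have h4 : Nat.card H = (Finset.univ.filter fun y : W => y ∈ H).card := by
      rw [Nat.card_eq_fintype_card, Fintype.card_subtype]
    have h5 := Finset.card_le_card (show (Finset.univ.filter fun y : W => y ∈ H) ⊆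
      Finset.univ.filter fun y : W => x * y = y * x from fun y hy =>
        Finset.mem_filter.2 ⟨Finset.mem_univ _, hc x hx y (Finset.mem_filter.1 hy).2⟩)
    omega
  have h2 := card_dvd_of_le h1
  rw [card_A] at h2
  have h3 : Nat.card H = 27 := by
    have h4 := Nat.le_of_dvd (by norm_num) h2
    generalize Nat.card H = n at h h2 h4
    interval_cases n <;> first | rfl | omega
  exact (eq_of_le_of_card_ge h1 (by rw [card_A, h3])).ge

end W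

variable {G : Type*} [Group G]

/-- the data: `3 ≀ 3 = ⟨α, τ⟩` normalizes `Q` and meets it trivially -/
structure Ext (Q : Subgroup G) (α τ : G) : Prop where
  a3 : α ^ 3 = 1
  t3 : τ ^ 3 = 1
  com : Commute α (τ * α * τ⁻¹)
  na : ∀ q ∈ Q, α * q * α⁻¹ ∈ Q
  nt : ∀ q ∈ Q, τ * q * τ⁻¹ ∈ Q
  nu : α * (τ * α * τ⁻¹) * (τ * (τ * α * τ⁻¹) * τ⁻¹) ∉ Q

theorem pow_val_add {x : G} (h : x ^ 3 = 1) (i j : Fin 3) : x ^ (i + j).val = x ^ i.val * x ^ j.val := by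
  rw [← pow_add, Fin.val_add, ← pow_eq_pow_mod _ h]

namespace Ext

variable {Q : Subgroup G} {α τ : G} (E : Ext Q α τ)

/-- the elements of the base group -/
def V (_ : Ext Q α τ) (a b c : Fin 3) : G := α ^ a.val * (τ * α * τ⁻¹) ^ b.val * (τ * (τ * α * τ⁻¹) * τ⁻¹) ^ c.val

include E

theorem t_conj : τ * (τ * (τ * α * τ⁻¹) * τ⁻¹) * τ⁻¹ = α := by
  calc τ * (τ * (τ * α * τ⁻¹) * τ⁻¹) * τ⁻¹ = τ ^ 3 * α * (τ ^ 3)⁻¹ := by rw [pow_three]; group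
    _ = α := by rw [E.t3]; group

theorem com12 : Commute (τ * α * τ⁻¹) (τ * (τ * α * τ⁻¹) * τ⁻¹) := E.com.map (MulAut.conj τ)

theorem com20 : Commute (τ * (τ * α * τ⁻¹) * τ⁻¹) α := by
  have h : Commute (τ * (τ * α * τ⁻¹) * τ⁻¹) (τ * (τ * (τ * α * τ⁻¹) * τ⁻¹) * τ⁻¹) := E.com12.map (MulAut.conj τ)
  rwa [E.t_conj] at h

theorem V_add (a b c a' b' c' : Fin 3) : E.V (a + a') (b + b') (c + c') = E.V a b c * E.V a' b' c' := by
  have h1 : (τ * α * τ⁻¹) ^ 3 = 1 := by rw [conj_pow, E.a3]; group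
  have h2 : (τ * (τ * α * τ⁻¹) * τ⁻¹) ^ 3 = 1 := by rw [conj_pow, h1]; group
  unfold V
  rw [pow_val_add E.a3, pow_val_add h1, pow_val_add h2]
  have c1 := (E.com.pow_pow a'.val b.val).eq
  have c2 := (E.com12.pow_pow b'.val c.val).eq
  have c3 := (E.com20.pow_pow c.val a'.val).eq
  generalize (τ * (τ * α * τ⁻¹) * τ⁻¹) = z at *
  generalize (τ * α * τ⁻¹) = y at *
  calc _ = α ^ a.val * (α ^ a'.val * y ^ b.val) * (y ^ b'.val * z ^ c.val) * z ^ c'.val := by simp only [mul_assoc]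
    _ = α ^ a.val * y ^ b.val * (α ^ a'.val * z ^ c.val) * y ^ b'.val * z ^ c'.val := by
      rw [c1, c2]; simp only [mul_assoc]
    _ = _ := by rw [← c3]; simp only [mul_assoc]

theorem t_V (a b c : Fin 3) : τ * E.V a b c = E.V c a b * τ := by
  have h : τ * E.V a b c * τ⁻¹ = (τ * α * τ⁻¹) ^ a.val * (τ * (τ * α * τ⁻¹) * τ⁻¹) ^ b.val * α ^ c.val := by
    have h1 : α ^ c.val = τ * (τ * (τ * α * τ⁻¹) * τ⁻¹) ^ c.val * τ⁻¹ := by rw [← conj_pow, E.t_conj]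
    rw [h1, conj_pow (a := τ) (b := α), conj_pow (a := τ) (b := τ * α * τ⁻¹) (i := b.val)]
    unfold V
    simp only [mul_assoc, inv_mul_cancel_left]
  rw [← mul_inv_eq_iff_eq_mul, h,
    (((E.com.pow_pow c.val a.val).mul_right (E.com20.pow_pow b.val c.val).symm).symm).eq, ← mul_assoc]
  rfl

theorem t_sh (l : Fin 3) (y : W) :
    τ ^ l.val * E.V y.a y.b y.c = E.V (W.sh l y).a (W.sh l y).b (W.sh l y).c * τ ^ l.val := by
  rcases W.three l with rfl | rfl | rfl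
  · show τ ^ 0 * _ = E.V y.a y.b y.c * τ ^ 0
    rw [pow_zero, one_mul, mul_one]
  · show τ ^ 1 * _ = E.V y.c y.a y.b * τ ^ 1
    rw [pow_one, E.t_V]
  · show τ ^ 2 * _ = E.V y.b y.c y.a * τ ^ 2
    rw [pow_two, mul_assoc, E.t_V, ← mul_assoc, E.t_V, mul_assoc]

/-- the complement -/
def e : W →* G := MonoidHom.mk' (fun x => E.V x.a x.b x.c * τ ^ x.l.val) fun x y => by
  show E.V (x.a + (W.sh x.l y).a) (x.b + (W.sh x.l y).b) (x.c + (W.sh x.l y).c) * τ ^ (x.l + y.l).val = _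
  rw [E.V_add, pow_val_add E.t3, mul_assoc, mul_assoc, ← mul_assoc _ (τ ^ x.l.val), ← E.t_sh, mul_assoc]

theorem e_apply (x : W) : E.e x = α ^ x.a.val * (τ * α * τ⁻¹) ^ x.b.val * (τ * (τ * α * τ⁻¹) * τ⁻¹) ^ x.c.val *
    τ ^ x.l.val := rfl

theorem e_al : E.e W.al = α := by
  rw [E.e_apply]
  show α ^ 1 * _ ^ 0 * _ ^ 0 * τ ^ 0 = α
  simp only [pow_one, pow_zero, mul_one]

theorem e_ta : E.e W.ta = τ := by
  rw [E.e_apply]
  show α ^ 0 * _ ^ 0 * _ ^ 0 * τ ^ 1 = τ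
  simp only [pow_one, pow_zero, one_mul]

theorem e_u : E.e W.u = α * (τ * α * τ⁻¹) * (τ * (τ * α * τ⁻¹) * τ⁻¹) := by
  rw [E.e_apply]
  show α ^ 1 * _ ^ 1 * _ ^ 1 * τ ^ 0 = _
  simp only [pow_one, pow_zero, mul_one]

/-- the complement lies in every subgroup which contains the generators -/
theorem e_mem {K : Subgroup G} (ha : α ∈ K) (ht : τ ∈ K) (x : W) : E.e x ∈ K := by
  have h1 := mul_mem (mul_mem ht ha) (inv_mem ht)
  have h2 := mul_mem (mul_mem ht h1) (inv_mem ht)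
  exact mul_mem (mul_mem (mul_mem (pow_mem ha _) (pow_mem h1 _)) (pow_mem h2 _)) (pow_mem ht _)

omit E in
theorem norm_of {g : G} (h3 : g ^ 3 = 1) (h : ∀ q ∈ Q, g * q * g⁻¹ ∈ Q) : g ∈ normalizer (Q : Set G) :=
  mem_normalizer_iff.2 fun q => ⟨h q, fun hq => by
    have h1 := h _ (h _ hq)
    rwa [show g * (g * (g * q * g⁻¹) * g⁻¹) * g⁻¹ = g ^ 3 * q * (g ^ 3)⁻¹ by rw [pow_three]; group, h3, one_mul,
      inv_one, mul_one] at h1⟩

theorem e_norm (x : W) {q : G} (hq : q ∈ Q) : E.e x * q * (E.e x)⁻¹ ∈ Q :=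
  (mem_normalizer_iff.1 (E.e_mem (norm_of E.a3 E.na) (norm_of E.t3 E.nt) x) q).1 hq

theorem eq_one {x : W} (h : E.e x ∈ Q) : x = 1 := by
  by_contra h1
  have h2 := W.u_mem (K := Q.comap E.e) (fun g y hy => by
    show E.e (g * y * g⁻¹) ∈ Q
    rw [map_mul, map_mul, map_inv]
    exact E.e_norm g hy) h h1
  exact E.nu (E.e_u ▸ h2)

/-- `g` lies over `x` -/
def Rel (g : G) (x : W) : Prop := g * (E.e x)⁻¹ ∈ Q

theorem rel_e (x : W) : E.Rel (E.e x) x := by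
  unfold Rel
  rw [mul_inv_cancel]
  exact one_mem _

theorem rel_one {g : G} : E.Rel g 1 ↔ g ∈ Q := by
  unfold Rel
  rw [map_one, inv_one, mul_one]

variable {E}

theorem Rel.mul {g h : G} {x y : W} (hg : E.Rel g x) (hh : E.Rel h y) : E.Rel (g * h) (x * y) := by
  have h1 := mul_mem hg (E.e_norm x hh)
  unfold Rel
  rwa [map_mul, show g * h * (E.e x * E.e y)⁻¹ = g * (E.e x)⁻¹ * (E.e x * (h * (E.e y)⁻¹) * (E.e x)⁻¹) by group]

theorem Rel.inv {g : G} {x : W} (hg : E.Rel g x) : E.Rel g⁻¹ x⁻¹ := by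
  have h1 := E.e_norm x⁻¹ (inv_mem hg)
  unfold Rel
  rw [map_inv] at h1 ⊢
  rwa [show g⁻¹ * (E.e x)⁻¹⁻¹ = (E.e x)⁻¹ * (g * (E.e x)⁻¹)⁻¹ * (E.e x)⁻¹⁻¹ by group]

theorem Rel.uniq {g : G} {x y : W} (hx : E.Rel g x) (hy : E.Rel g y) : x = y := by
  have h1 := mul_mem (inv_mem hx) hy
  rw [show (g * (E.e x)⁻¹)⁻¹ * (g * (E.e y)⁻¹) = E.e x * (E.e y)⁻¹ by group, ← map_inv, ← map_mul] at h1
  exact mul_inv_eq_one.1 (E.eq_one h1)

theorem Rel.comm {g h : G} {x y : W} (hg : E.Rel g x) (hh : E.Rel h y) (hc : g * h * g⁻¹ * h⁻¹ ∈ Q) :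
    x * y = y * x := by
  have h1 := (((hg.mul hh).mul hg.inv).mul hh.inv).uniq (E.rel_one.2 hc)
  exact mul_inv_eq_iff_eq_mul.1 (mul_inv_eq_one.1 h1)

variable (E)

/-- the preimage of a subgroup -/
def Pre (H : Subgroup W) : Subgroup G where
  carrier := {g | ∃ x ∈ H, E.Rel g x}
  one_mem' := ⟨1, one_mem _, E.rel_one.2 (one_mem _)⟩
  mul_mem' := fun ⟨x, hx, h⟩ ⟨y, hy, h'⟩ => ⟨x * y, mul_mem hx hy, h.mul h'⟩
  inv_mem' := fun ⟨x, hx, h⟩ => ⟨x⁻¹, inv_mem hx, h.inv⟩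

/-- the image of a subgroup -/
def im (K : Subgroup G) : Subgroup W where
  carrier := {x | ∃ g ∈ K, E.Rel g x}
  one_mem' := ⟨1, one_mem _, E.rel_one.2 (one_mem _)⟩
  mul_mem' := fun ⟨x, hx, h⟩ ⟨y, hy, h'⟩ => ⟨x * y, mul_mem hx hy, h.mul h'⟩
  inv_mem' := fun ⟨x, hx, h⟩ => ⟨x⁻¹, inv_mem hx, h.inv⟩

theorem Q_le (H : Subgroup W) : Q ≤ E.Pre H := fun _ hq => ⟨1, one_mem _, E.rel_one.2 hq⟩

theorem e_mem_Pre {H : Subgroup W} {x : W} (hx : x ∈ H) : E.e x ∈ E.Pre H := ⟨x, hx, E.rel_e x⟩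

theorem Pre_le {H : Subgroup W} {K : Subgroup G} (hQ : Q ≤ K) (h : ∀ x ∈ H, E.e x ∈ K) : E.Pre H ≤ K := by
  rintro g ⟨x, hx, hg⟩
  have h1 := mul_mem (hQ hg) (h x hx)
  rwa [inv_mul_cancel_right] at h1

theorem Pre_le_top (H : Subgroup W) : E.Pre H ≤ E.Pre ⊤ := fun _ ⟨x, _, h⟩ => ⟨x, mem_top x, h⟩

theorem card_eq {K : Subgroup G} (hK : K ≤ E.Pre ⊤) : Nat.card K = Nat.card ↥(K ⊓ Q) * Nat.card (E.im K) := by
  have h : ∀ g : K, ∃ x, E.Rel g x := fun g => (hK g.2).imp fun _ h => h.2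
  choose f hf using h
  let ψ : K →* W := MonoidHom.mk' f fun a b => (hf (a * b)).uniq ((hf a).mul (hf b))
  have h1 : ψ.range = E.im K := by
    ext x
    exact ⟨fun ⟨g, hg⟩ => ⟨g, g.2, hg ▸ hf g⟩, fun ⟨g, hg, h⟩ => ⟨⟨g, hg⟩, (hf ⟨g, hg⟩).uniq h⟩⟩
  have h2 : ψ.ker = (K ⊓ Q).subgroupOf K := by
    ext g
    rw [MonoidHom.mem_ker, mem_subgroupOf, mem_inf]
    exact ⟨fun h => ⟨g.2, E.rel_one.1 (h ▸ hf g)⟩, fun h => (hf g).uniq (E.rel_one.2 h.2)⟩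
  rw [← ψ.ker.card_mul_index, index_ker, h1, h2, Nat.card_congr (subgroupOfEquivOfLe inf_le_left).toEquiv]

theorem card_Pre (H : Subgroup W) : Nat.card (E.Pre H) = Nat.card Q * Nat.card H := by
  have h : E.im (E.Pre H) = H := by
    ext x
    exact ⟨fun ⟨g, ⟨y, hy, h1⟩, h2⟩ => h1.uniq h2 ▸ hy, fun hx => ⟨_, E.e_mem_Pre hx, E.rel_e x⟩⟩
  rw [E.card_eq (E.Pre_le_top H), h, inf_eq_right.2 (E.Q_le H)]

/-- the centralizer of an element of order three outside `Q` -/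
theorem cent {F : Subgroup G} (hF : F ≤ E.Pre ⊤) {h : G} (hh : h ∈ F) (hQ : h ∉ Q) (h3 : h ^ 3 = 1)
    (hc : ∀ f ∈ F, Commute h f) : F ≤ E.Pre W.A ∨ E.Rel h W.u ∨ E.Rel h⁻¹ W.u ∨
      ∃ g : G, ∀ f ∈ F, ∃ i j : Fin 3, E.Rel (g * f * g⁻¹) ⟨i, i, i, j⟩ := by
  obtain ⟨x, -, hx⟩ := hF hh
  have h1 : x ≠ 1 := fun e => hQ (E.rel_one.1 (e ▸ hx))
  have h2 : x * x * x = 1 := ((hx.mul hx).mul hx).uniq (by
    rw [← pow_three', h3]
    exact E.rel_one.2 (one_mem _))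
  have key : ∀ f ∈ F, ∃ y, E.Rel f y ∧ x * y = y * x := fun f hf => by
    obtain ⟨y, -, hy⟩ := hF hf
    refine ⟨y, hy, hx.comm hy ?_⟩
    rw [(hc f hf).eq, mul_inv_cancel_right, mul_inv_cancel]
    exact one_mem _
  rcases W.cent_fact x h1 h2 with h4 | h4 | h4 | ⟨p, q, h4⟩
  · refine Or.inl fun f hf => ?_
    obtain ⟨y, hy, h5⟩ := key f hf
    exact ⟨y, h4 y h5, hy⟩
  · exact Or.inr (Or.inl (h4 ▸ hx))
  · exact Or.inr (Or.inr (Or.inl (h4 ▸ hx.inv)))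
  · refine Or.inr (Or.inr (Or.inr ⟨E.e ⟨p, q, 0, 0⟩, fun f hf => ?_⟩))
    obtain ⟨y, hy, h5⟩ := key f hf
    obtain ⟨i, j, h6⟩ := h4 y h5
    exact ⟨i, j, h6 ▸ ((E.rel_e _).mul hy).mul (E.rel_e _).inv⟩

/-- a subgroup with a large abelian image covers the base group -/
theorem abel [Finite G] {D : Subgroup G} (hD : D ≤ E.Pre ⊤) (hc : ∀ a ∈ D, ∀ b ∈ D, a * b * a⁻¹ * b⁻¹ ∈ Q)
    (h : 9 * Nat.card ↥(D ⊓ Q) < Nat.card D) {x : W} (hx : x ∈ W.A) : ∃ d ∈ D, E.Rel d x := by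
  refine W.A_le (H := E.im D) ?_ ?_ hx
  · rintro x ⟨a, ha, h1⟩ y ⟨b, hb, h2⟩
    exact h1.comm h2 (hc a ha b hb)
  · rw [E.card_eq hD, mul_comm] at h
    exact Nat.lt_of_mul_lt_mul_left h

end Ext

end Cfsg.Agent.SB.SporD.Fi
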